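import Cfsg.Agent.Lib.OrthReversal.Degenerate

/-!
The vector needed for the commutator when the product of the two involutions fixes only an anisotropic line.
-/

set_option autoImplicit false
set_option linter.unusedSectionVars false

namespace CfsgLib.OrthReversal

open CfsgLib.Orth
open Matrix

variable {F : Type*} [Field F] [Finite F] {ι : Type} [Fintype ι] [DecidableEq ι]
variable {Q : QuadraticForm F (ι → F)} {n : ℕ} {c : F} {a b : Grp Q} {v u : ι → F}

local notation "B" => QuadraticMap.polar (DFunLike.coe Q)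

/-- Two involutions whose product fixes only the anisotropic line of `v`. -/
structure LineData (Q : QuadraticForm F (ι → F)) (n : ℕ) (c : F) (a b : Grp Q) (v : ι → F) : Prop where
  pair : InvPair Q n a b
  qv : Q v ≠ 0
  sq : IsSquare (c * Q v)
  fixa : ap a v = v
  fixb : ap b v = v
  uniq : ∀ x, QuadraticMap.polar ⇑Q v x = 0 → ap a x = ap b x → x = 0

theorem LineData.symm (D : LineData Q n c a b v) : LineData Q n c b a v :=
  ⟨D.pair.symm, D.qv, D.sq, D.fixb, D.fixa, fun x h e => D.uniq x h e.symm⟩

theorem LineData.omComm_symm (D : LineData Q n c a b v) (h : OmComm Q (b * a)) : OmComm Q (a * b) := by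
  have e : a * b = (b * a)⁻¹ := by
    rw [_root_.mul_inv_rev, inv_eq_of_mul_eq_one_right D.pair.sqa, inv_eq_of_mul_eq_one_right D.pair.sqb]
  rw [e]
  exact h.inv

/-- Negating both involutions on the orthogonal of `v`. -/
theorem LineData.flip (S : OddSetting Q n c) (D : LineData Q n c a b v) :
    ∃ a' b' : Grp Q, LineData Q n c a' b' v ∧ a' * b' = a * b ∧ ∀ x, B v x = 0 →
      ap a' x = -ap a x ∧ ap b' x = -ap b x := by
  have h2 := S.two
  obtain ⟨r, hr⟩ := exists_refl S.nondeg D.qv
  obtain ⟨mo, hmo⟩ := exists_iso S.nondeg (-LinearMap.id) fun x => by simp [QuadraticMap.map_neg]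
  replace hmo : ∀ x, ap mo x = -x := fun x => by rw [hmo]; simp
  have hmc : ∀ g : Grp Q, Commute mo g := fun g => ext_ap fun x => by
    rw [ap_mul, ap_mul, hmo, hmo, ap_neg]
  have hrc : ∀ g : Grp Q, g * g = 1 → ap g v = v → Commute r g := fun g hg hgv => ext_ap fun x => by
    rw [ap_mul, ap_mul, hr.2, hr.2 x, ap_sub, ap_smul, hgv]
    congr 3
    rw [← invol_b hg, hgv]
  have hm2 : mo * mo = 1 := ext_ap fun x => by rw [ap_mul, hmo, hmo, neg_neg, ap_one]
  have key : ∀ g : Grp Q, g * g = 1 → ap g v = v → Module.finrank F (fixSpace g) = n + 1 →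
      (mo * (g * r)) * (mo * (g * r)) = 1 ∧ Module.finrank F (fixSpace (mo * (g * r))) = n + 1 ∧
      ap (mo * (g * r)) v = v ∧ ∀ x, B v x = 0 → ap (mo * (g * r)) x = -ap g x := by
    intro g hg hgv hdim
    have hgr : g * r * (g * r) = 1 := by
      rw [mul_assoc, ← mul_assoc r, (hrc g hg hgv).eq, mul_assoc g r, refl_sq hr, mul_one, hg]
    have hvn : v ∈ negSpace (g * r) := by rw [mem_negSpace, ap_mul, refl_apply_self hr, ap_neg, hgv]
    obtain ⟨-, -, -, hd⟩ := peel h2 hgr hr hvn
    rw [mul_assoc g, refl_sq hr, mul_one] at hd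
    have hn := fix_add_neg h2 hg
    rw [hdim, S.dim] at hn
    refine ⟨?_, ?_, by rw [ap_mul, ap_mul, refl_apply_self hr, ap_neg, hgv, hmo, neg_neg],
      fun x hx => by rw [ap_mul, ap_mul, refl_apply_orth hr hx, hmo]⟩
    · rw [mul_assoc, ← mul_assoc (g * r), ← (hmc (g * r)).eq, mul_assoc mo (g * r), hgr, mul_one, hm2]
    · have e : fixSpace (mo * (g * r)) = negSpace (g * r) := by
        ext x
        rw [mem_fixSpace, mem_negSpace, ap_mul, hmo, neg_eq_iff_eq_neg]
      rw [e]
      omega
  obtain ⟨a1, a2, a3, a4⟩ := key a D.pair.sqa D.fixa D.pair.dima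
  obtain ⟨b1, b2, b3, b4⟩ := key b D.pair.sqb D.fixb D.pair.dimb
  have he : mo * (a * r) * (mo * (b * r)) = a * b := by
    rw [mul_assoc, ← mul_assoc (a * r), ← (hmc (a * r)).eq, mul_assoc mo (a * r), ← mul_assoc mo, hm2, one_mul,
      mul_assoc, ← mul_assoc r, (hrc b D.pair.sqb D.fixb).eq, mul_assoc b r, refl_sq hr, mul_one]
  refine ⟨_, _, ⟨⟨a1, b1, a2, b2, by rw [he]; exact D.pair.mem⟩, D.qv, D.sq, a3, b3, fun x hx e => ?_⟩, he,
    fun x hx => ⟨a4 x hx, b4 x hx⟩⟩
  rw [a4 x hx, b4 x hx, neg_inj] at e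
  exact D.uniq x hx e

/-- An isotropic vector with a good norm, outside the fixed spaces. -/
theorem LineData.omComm_square (S : OddSetting Q n c) (D : LineData Q n c a b v) (hu : B v u = 0)
    (hR : rq a b u u = 0) (hQ : Q u ≠ 0) (hsq : IsSquare (c * Q u)) (ha : ap a u ≠ u) (hb : ap b u ≠ u) :
    OmComm Q (a * b) := by
  obtain ⟨s, hs⟩ := hsq
  obtain ⟨r, hr⟩ := D.sq
  obtain ⟨y, hy⟩ := exists_one_add_sq_nonsquare (F := F) S.two
  have hr0 : r ≠ 0 := fun e => D.qv ((mul_eq_zero.1 (by rw [hr, e, mul_zero] : c * Q v = 0)).resolve_left S.c_ne)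
  have hs0 : s ≠ 0 := fun e => hQ ((mul_eq_zero.1 (by rw [hs, e, mul_zero] : c * Q u = 0)).resolve_left S.c_ne)
  have hy0 : y ≠ 0 := fun e => hy (by rw [e, mul_zero, add_zero]; exact IsSquare.one)
  set t := y * s / r with ht
  have ht0 : t ≠ 0 := div_ne_zero (mul_ne_zero hy0 hs0) hr0
  set w := u + t • v with hw
  have hQw : c * Q w = s * s * (1 + y * y) := by
    rw [hw, q_add, q_smul, b_smul_right, b_comm u v, hu, mul_zero, add_zero, mul_add,
      show c * (t * t * Q v) = t * t * (c * Q v) by ring, hs, hr, ht]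
    field_simp
  have key : ∀ g : Grp Q, g * g = 1 → ap g v = v → ap g u ≠ u → ap g w ≠ w ∧ ap g w ≠ -w := by
    intro g hg hgv hgu
    refine ⟨fun h => hgu ?_, fun h => ?_⟩
    · rw [hw, ap_add, ap_smul, hgv] at h
      exact add_right_cancel h
    · have h1 : B v (ap g w) = B v w := by rw [← invol_b hg, hgv]
      rw [h, ← neg_one_smul F w, b_smul_right, hw, b_add_right, hu, zero_add, b_smul_right, b_self] at h1
      exact mul_ne_zero (mul_ne_zero S.two S.two) (mul_ne_zero ht0 D.qv) (by linear_combination -h1)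
  obtain ⟨a1, a2⟩ := key a D.pair.sqa D.fixa ha
  obtain ⟨b1, b2⟩ := key b D.pair.sqb D.fixb hb
  refine omComm_of_vector S D.pair (w := w) ?_ ?_ (iff_of_false a1 b1) (iff_of_false a2 b2)
  · rintro ⟨z, hz⟩
    refine hy ⟨z / s, ?_⟩
    rw [hQw] at hz
    field_simp
    linear_combination hz
  · have h0 : rq a b w w = 0 := by
      have hvK : ∀ x, rq a b v x = 0 := fun x => by rw [rq_apply, D.fixa, D.fixb, sub_self]
      rw [hw, rq_self_shift D.pair.sqa D.pair.sqb, hR, rq_comm D.pair.sqa D.pair.sqb u v, hvK, hvK, mul_zero,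
        mul_zero, add_zero, add_zero]
    rw [rq_apply, sub_eq_zero] at h0
    exact h0

theorem LineData.omComm_square' (S : OddSetting Q n c) (D : LineData Q n c a b v) (hu : B v u = 0)
    (hR : rq a b u u = 0) (hQ : Q u ≠ 0) (hsq : IsSquare (c * Q u)) : OmComm Q (a * b) := by
  by_cases h : ap a u = u ∨ ap b u = u
  · obtain ⟨a', b', D', he, hfl⟩ := D.flip S
    obtain ⟨ea, eb⟩ := hfl u hu
    have h4 : B u u ≠ 0 := by rw [b_self]; exact mul_ne_zero S.two hQ
    have hR' := hR
    rw [rq_apply] at hR'
    have main : ∀ g g' : Grp Q, ap g u = u → ap g' u = -u → B (ap g u) u ≠ B (ap g' u) u := fun g g' h1 h1' e => by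
      rw [h1, h1', ← neg_one_smul F u, b_smul_left] at e
      exact mul_ne_zero S.two h4 (by linear_combination e)
    have hau : ap a u ≠ -u := fun e => by
      rcases h with h | h
      · rw [h] at e
        exact hQ (by rw [two_smul_eq_zero S.two (x := u) (by nth_rw 1 [e]; exact neg_add_cancel u),
          QuadraticMap.map_zero])
      · exact main b a h e (sub_eq_zero.1 hR').symm
    have hbu : ap b u ≠ -u := fun e => by
      rcases h with h | h
      · exact main a b h e (sub_eq_zero.1 hR')
      · rw [h] at e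
        exact hQ (by rw [two_smul_eq_zero S.two (x := u) (by nth_rw 1 [e]; exact neg_add_cancel u),
          QuadraticMap.map_zero])
    rw [← he]
    refine D'.omComm_square S hu ?_ hQ hsq (fun e => hau ?_) (fun e => hbu ?_)
    · rw [rq_apply, ea, eb, ← neg_one_smul F (ap a u), ← neg_one_smul F (ap b u), b_smul_left, b_smul_left]
      linear_combination -hR'
    · rw [ea] at e; exact neg_eq_iff_eq_neg.1 e
    · rw [eb] at e; exact neg_eq_iff_eq_neg.1 e
  · push Not at h
    exact D.omComm_square S hu hR hQ hsq h.1 h.2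

theorem LineData.omComm_nonsquare (S : OddSetting Q n c) (D : LineData Q n c a b v)
    (hR : rq a b u u = 0) (hsq : ¬ IsSquare (c * Q u)) (ha : ap a u ≠ u) (hb : ap b u ≠ u)
    (ha' : ap a u ≠ -u) (hb' : ap b u ≠ -u) : OmComm Q (a * b) := by
  rw [rq_apply, sub_eq_zero] at hR
  exact omComm_of_vector S D.pair hsq hR (iff_of_false ha hb) (iff_of_false ha' hb')

/-- The exceptional position: the isotropic vector is negated by `a`. -/
theorem LineData.omComm_neg (S : OddSetting Q n c) (D : LineData Q n c a b v) (hu : B v u = 0)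
    (hR : rq a b u u = 0) (hsq : ¬ IsSquare (c * Q u)) (hau : ap a u = -u) : OmComm Q (a * b) := by
  have hB := S.nondeg
  have h2 := S.two
  have hn := S.three
  have hsa := D.pair.sqa
  have hsb := D.pair.sqb
  have hsym := rq_comm (Q := Q) hsa hsb
  obtain ⟨hna, hnb⟩ := D.pair.negdim S
  have hQ : Q u ≠ 0 := fun e => hsq (by rw [e, mul_zero]; exact IsSquare.zero)
  have hu0 : u ≠ 0 := fun e => hQ (by rw [e, QuadraticMap.map_zero])
  have hperp : ∀ g : Grp Q, ap g v = v → ∀ x ∈ negSpace g, B v x = 0 := fun g hg x hx =>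
    b_fix_neg h2 (mem_fixSpace.2 hg) hx
  have hdisj : ∀ x, x ∈ negSpace a → x ∈ negSpace b → x = 0 := fun x ha hb =>
    D.uniq x (hperp a D.fixa x ha) (by rw [mem_negSpace.1 ha, mem_negSpace.1 hb])
  set W := orth Q (Submodule.span F {v}) with hW
  have hWsum : negSpace a ⊔ negSpace b = W := by
    refine Submodule.eq_of_le_of_finrank_le (sup_le (fun x hx => ?_) fun x hx => ?_) ?_
    · exact mem_orth_span.2 (by rintro s rfl; exact hperp a D.fixa x hx)
    · exact mem_orth_span.2 (by rintro s rfl; exact hperp b D.fixb x hx)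
    · have h1 := Submodule.finrank_sup_add_finrank_inf_eq (negSpace a) (negSpace b)
      rw [(Submodule.eq_bot_iff (negSpace a ⊓ negSpace b)).2 fun x hx => hdisj x hx.1 hx.2, finrank_bot, hna,
        hnb] at h1
      have h3 := finrank_orth hB (Submodule.span F {v})
      rw [finrank_span_singleton (fun e => D.qv (by rw [e, QuadraticMap.map_zero])), S.dim, ← hW] at h3
      omega
  have hmix : ∀ x ∈ negSpace a, ∀ y ∈ negSpace b, rq a b x y = 0 := fun x hx y hy => by
    rw [rq_apply, invol_b hsb, mem_negSpace.1 hx, mem_negSpace.1 hy, ← neg_one_smul F x, ← neg_one_smul F y,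
      b_smul_left, b_smul_right, sub_self]
  have hrad : ∀ x ∈ negSpace b, (∀ y ∈ negSpace b, rq a b x y = 0) → x = 0 := by
    intro x hx hxy
    refine D.uniq x (hperp b D.fixb x hx) (sub_eq_zero.1 (hB _ fun y => ?_))
    have hv0 : ∀ z, rq a b z v = 0 := fun z => by
      rw [hsym, rq_apply, D.fixa, D.fixb, sub_self]
    have hvv : B v v ≠ 0 := by rw [b_self]; exact mul_ne_zero h2 D.qv
    have hyW : y - ((B v v)⁻¹ * B v y) • v ∈ W := mem_orth_span.2 (by
      rintro s rfl
      rw [b_sub_right, b_smul_right, mul_comm _ (B s y), mul_assoc, inv_mul_cancel₀ hvv, mul_one, sub_self])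
    rw [← hWsum] at hyW
    obtain ⟨p, hp, q, hq, e⟩ := Submodule.mem_sup.1 hyW
    rw [b_sub_left, ← rq_apply, show y = p + q + ((B v v)⁻¹ * B v y) • v by rw [e, sub_add_cancel], map_add,
      map_add, map_smul, hv0, smul_zero, add_zero, hxy q hq, add_zero, hsym, hmix p hp x hx]
  -- an isotropic vector negated by `b` outside one line
  obtain ⟨e, he, he0, hee⟩ := exists_isotropic_of_three h2 (rq a b) hsym (C := negSpace b) (by omega)
  set z0 := ap b u - u with hz0
  obtain ⟨x, hx, hxl, hxZ⟩ : ∃ x ∈ negSpace b, x ∉ LinearMap.ker (rq a b e) ∧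
      x ∉ Submodule.span F {z0} ⊔ Submodule.span F {e} := by
    refine exists_not_mem_two (fun h => he0 (hrad e he fun y hy => h hy)) fun h => ?_
    have h1 := Submodule.finrank_mono h
    have h3 := Submodule.finrank_add_le_finrank_add_finrank (Submodule.span F {z0}) (Submodule.span F {e})
    have h4 : ∀ w : ι → F, Module.finrank F (Submodule.span F {w}) ≤ 1 := fun w =>
      (finrank_span_le_card ({w} : Set (ι → F))).trans (by simp)
    have := h4 z0
    have := h4 e
    omega
  rw [LinearMap.mem_ker] at hxl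
  set k := rq a b x x / (2 * rq a b e x) with hk
  set z := x + (-k) • e with hz
  have hzb : ap b z = -z := (negSpace b).add_mem hx ((negSpace b).smul_mem _ he)
  have hzz : rq a b z z = 0 := by
    rw [hz, rq_self_shift hsa hsb, hee, hsym x e, hk]
    field_simp
    ring
  have hzline : z ∉ Submodule.span F {z0} := fun h => hxZ (by
    rw [show x = z + k • e by rw [hz, neg_smul, neg_add_cancel_right]]
    exact Submodule.add_mem_sup h (Submodule.smul_mem _ _ (Submodule.mem_span_singleton_self e)))
  have hzv : B v z = 0 := hperp b D.fixb z hzb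
  by_cases hzgood : Q z ≠ 0 ∧ IsSquare (c * Q z)
  · exact D.omComm_square' S hzv hzz hzgood.1 hzgood.2
  have haz : ap a z ≠ -z := fun h => hzline (by rw [hdisj z h hzb]; exact Submodule.zero_mem _)
  have huz : rq a b u z = 0 := hmix u hau z hzb
  -- the candidate `u + s z`
  suffices H : ∃ s : F, s ≠ 0 ∧ Q (u + s • z) ≠ 0 ∧ (ap a (u + s • z) = u + s • z → IsSquare (c * Q (u + s • z))) by
    obtain ⟨s, hs, hQs, hfix⟩ := H
    have hperpw : B v (u + s • z) = 0 := by rw [b_add_right, b_smul_right, hu, hzv, mul_zero, add_zero]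
    have hRw : rq a b (u + s • z) (u + s • z) = 0 := by
      rw [rq_self_shift hsa hsb, hR, huz, hzz, mul_zero, mul_zero, add_zero, add_zero]
    by_cases hsq' : IsSquare (c * Q (u + s • z))
    · exact D.omComm_square' S hperpw hRw hQs hsq'
    refine D.omComm_nonsquare S hRw hsq' (fun h => hsq' (hfix h)) (fun h => hzline ?_) (fun h => haz ?_) fun h => ?_
    · rw [ap_add, ap_smul, hzb] at h
      refine Submodule.mem_span_singleton.2 ⟨(2 * s)⁻¹, ?_⟩
      have h' : z0 = (2 * s) • z := by
        rw [hz0, sub_eq_iff_eq_add']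
        calc ap b u = ap b u + s • -z + s • z := by rw [smul_neg]; abel
          _ = u + s • z + s • z := by rw [h]
          _ = u + (2 * s) • z := by rw [mul_smul, two_smul]; abel
      rw [h', smul_smul, inv_mul_cancel₀ (mul_ne_zero h2 hs), one_smul]
    · rw [ap_add, ap_smul, hau, neg_add, ← smul_neg] at h
      exact smul_right_injective _ hs (add_left_cancel h)
    · rw [ap_add, ap_smul, hzb] at h
      have hbu : ap b u = -u := by linear_combination (norm := module) h
      exact hu0 (hdisj u hau hbu)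
  have hQs : ∀ s : F, Q (u + s • z) = Q u + s * B u z + s * s * Q z := fun s => by
    rw [q_add, q_smul, b_smul_right]; ring
  cases nonempty_fintype F
  classical
  by_cases h3 : Fintype.card F = 3
  · -- three elements
    have hF : ∀ x : F, x = 0 ∨ x = 1 ∨ x = -1 := by
      intro x
      have h11 : (1 : F) ≠ -1 := fun h => h2 (by linear_combination h)
      have hcard : ({0, 1, -1} : Finset F).card = 3 := by
        rw [Finset.card_insert_of_notMem (by simp), Finset.card_insert_of_notMem (by simpa using h11),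
          Finset.card_singleton]
      have := Finset.eq_univ_of_card _ (hcard.trans h3.symm)
      have := this.symm ▸ Finset.mem_univ x
      simpa using this
    have hsquare : ∀ x : F, x ≠ -1 → IsSquare x := fun x hx => by
      rcases hF x with e | e | e
      · exact e ▸ IsSquare.zero
      · exact e ▸ IsSquare.one
      · exact absurd e hx
    have hcu : c * Q u = -1 := by
      by_contra h; exact hsq (hsquare _ h)
    have hcz : c * Q z = 0 ∨ c * Q z = -1 := by
      rcases hF (c * Q z) with e | e | e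
      · exact Or.inl e
      · exact absurd ⟨fun h0 => zero_ne_one (α := F) (by rw [← e, h0, mul_zero]), e ▸ IsSquare.one⟩ hzgood
      · exact Or.inr e
    obtain ⟨s, hs, hss, hQs'⟩ : ∃ s : F, s ≠ 0 ∧ s * s = 1 ∧ Q (u + s • z) ≠ 0 := by
      by_contra hc
      push Not at hc
      have h1 := hc 1 one_ne_zero (one_mul 1)
      have h1' := hc (-1) (neg_ne_zero.2 one_ne_zero) (by ring)
      rw [hQs] at h1 h1'
      have hsum : c * Q u + c * Q z = 0 := by
        refine (mul_eq_zero.1 (?_ : (2 : F) * (c * Q u + c * Q z) = 0)).resolve_left h2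
        linear_combination c * h1 + c * h1'
      rcases hcz with e | e <;> rw [hcu, e] at hsum
      · exact one_ne_zero (α := F) (by linear_combination -hsum)
      · exact h2 (by linear_combination -hsum)
    refine ⟨s, hs, hQs', fun hfix => ?_⟩
    have hzero : B u (u + s • z) = 0 := by
      rw [b_comm]; exact b_fix_neg h2 (mem_fixSpace.2 hfix) (mem_negSpace.2 hau)
    rw [b_add_right, b_self, b_smul_right] at hzero
    have hval : c * Q (u + s • z) = c * Q z + 1 := by
      rw [hQs, hss]
      linear_combination c * hzero - hcu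
    rw [hval]
    rcases hcz with e | e <;> rw [e]
    · exact (zero_add (1 : F)).symm ▸ IsSquare.one
    · exact (neg_add_cancel (1 : F)).symm ▸ IsSquare.zero
  · -- at least five elements
    have h5 : 5 ≤ Fintype.card F := by
      have := three_le_card (F := F) h2
      rw [Nat.card_eq_fintype_card] at this
      have := FiniteField.odd_card_of_char_ne_two (F := F) (fun e => h2 (by
        have := CharP.cast_eq_zero F (ringChar F); rwa [e, Nat.cast_ofNat] at this))
      omega
    let P : Polynomial F := Polynomial.C (Q z) * Polynomial.X ^ 2 + Polynomial.C (B u z) * Polynomial.X +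
      Polynomial.C (Q u)
    have hP0 : P ≠ 0 := fun h => hQ (by
      have := congrArg (fun p => Polynomial.coeff p 0) h
      simpa [P] using this)
    have hPdeg : P.natDegree ≤ 2 := Polynomial.natDegree_quadratic_le
    let S1 : Finset F := Finset.univ.filter fun s => ap a (u + s • z) = u + s • z
    have hS1 : S1.card ≤ 1 := Finset.card_le_one.2 fun s hs t ht => by
      simp only [S1, Finset.mem_filter, Finset.mem_univ, true_and, ap_add, ap_smul, hau] at hs ht
      by_contra hne
      have hd : (s - t) • (ap a z - z) = 0 := by linear_combination (norm := module) hs - ht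
      have hzfix : ap a z - z = 0 := (smul_eq_zero.1 hd).resolve_left (sub_ne_zero.2 hne)
      rw [sub_eq_zero] at hzfix
      rw [hzfix] at hs
      exact hu0 (two_smul_eq_zero h2 (neg_eq_iff_add_eq_zero.1 (add_right_cancel hs)))
    have hcard : (P.roots.toFinset ∪ S1 ∪ {0}).card < Fintype.card F := by
      have h1 := (Multiset.toFinset_card_le P.roots).trans ((Polynomial.card_roots' P).trans hPdeg)
      have := Finset.card_union_le (P.roots.toFinset ∪ S1) {0}
      have := Finset.card_union_le P.roots.toFinset S1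
      have := Finset.card_singleton (0 : F)
      omega
    obtain ⟨s, hs⟩ : ∃ s, s ∉ P.roots.toFinset ∪ S1 ∪ {0} := by
      by_contra hall
      push Not at hall
      rw [Finset.eq_univ_iff_forall.2 hall, Finset.card_univ] at hcard
      exact lt_irrefl _ hcard
    simp only [Finset.mem_union, Finset.mem_singleton, not_or] at hs
    refine ⟨s, hs.2, fun h => hs.1.1 ?_, fun h => absurd (Finset.mem_filter.2 ⟨Finset.mem_univ s, h⟩) hs.1.2⟩
    rw [Multiset.mem_toFinset, Polynomial.mem_roots hP0, Polynomial.IsRoot]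
    simp only [P, Polynomial.eval_add, Polynomial.eval_mul, Polynomial.eval_C, Polynomial.eval_pow, Polynomial.eval_X]
    rw [← h, hQs]
    ring

/-- An isotropic vector of non-zero norm. -/
theorem LineData.exists_isotropic_aniso (S : OddSetting Q n c) (D : LineData Q n c a b v) :
    ∃ u, B v u = 0 ∧ rq a b u u = 0 ∧ Q u ≠ 0 := by
  have hB := S.nondeg
  have h2 := S.two
  have hn := S.three
  have hsa := D.pair.sqa
  have hsb := D.pair.sqb
  have hsym := rq_comm (Q := Q) hsa hsb
  have hv0 : v ≠ 0 := fun e => D.qv (by rw [e, QuadraticMap.map_zero])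
  set W := orth Q (Submodule.span F {v}) with hW
  have hmemW : ∀ x, x ∈ W ↔ B v x = 0 := fun x => by rw [hW, mem_orth_span]; simp
  have hWdim : Module.finrank F W = 2 * n := by
    have h3 := finrank_orth hB (Submodule.span F {v})
    rw [finrank_span_singleton hv0, S.dim, ← hW] at h3
    omega
  have hrqv : ∀ x, rq a b x v = 0 := fun x => by rw [hsym, rq_apply, D.fixa, D.fixb, sub_self]
  have hdecV : ∀ y, ∃ y' ∈ W, ∃ r : F, y = y' + r • v := fun y =>
    ⟨y - ((B v v)⁻¹ * B v y) • v, (hmemW _).2 (by
      have hvv : B v v ≠ 0 := by rw [b_self]; exact mul_ne_zero h2 D.qv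
      rw [b_sub_right, b_smul_right, mul_comm _ (B v y), mul_assoc, inv_mul_cancel₀ hvv, mul_one, sub_self]),
      _, (sub_add_cancel _ _).symm⟩
  have hrad : ∀ x ∈ W, (∀ y ∈ W, rq a b x y = 0) → x = 0 := fun x hx h => by
    refine D.uniq x ((hmemW x).1 hx) (sub_eq_zero.1 (hB _ fun y => ?_))
    obtain ⟨y', hy', r, rfl⟩ := hdecV y
    rw [b_sub_left, ← rq_apply, map_add, map_smul, h y' hy', hrqv, smul_zero, add_zero]
  obtain ⟨e, he, he0, hee⟩ := exists_isotropic_of_three h2 (rq a b) hsym (C := W) (by omega)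
  by_contra hc
  push Not at hc
  have hQ0 : ∀ x ∈ W, rq a b x x = 0 → B x x = 0 := fun x hx h => by
    rw [b_self, hc x ((hmemW x).1 hx) h, mul_zero]
  obtain ⟨f₀, hf₀, hef₀⟩ : ∃ y ∈ W, rq a b e y ≠ 0 := by
    by_contra h
    push Not at h
    exact he0 (hrad e he h)
  set f₁ := (rq a b e f₀)⁻¹ • f₀ with hf₁
  have hef₁ : rq a b e f₁ = 1 := by rw [hf₁, map_smul, smul_eq_mul, inv_mul_cancel₀ hef₀]
  set f := f₁ + (-(rq a b f₁ f₁ / 2)) • e with hfdef
  have hfW : f ∈ W := W.add_mem (W.smul_mem _ hf₀) (W.smul_mem _ he)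
  have hff : rq a b f f = 0 := by
    rw [hfdef, rq_self_shift hsa hsb, hee, hsym f₁ e, hef₁]
    field_simp
    ring
  have hef : rq a b e f = 1 := by
    rw [hfdef, map_add, hef₁, map_smul, hee, smul_zero, add_zero]
  have hBee := hQ0 e he hee
  have hBff := hQ0 f hfW hff
  set lam := B e f with hlam
  -- the orthogonal of the pair
  let K : Submodule F (ι → F) := W ⊓ LinearMap.ker (rq a b e) ⊓ LinearMap.ker (rq a b f)
  have hK : ∀ k, k ∈ K ↔ (k ∈ W ∧ rq a b e k = 0) ∧ rq a b f k = 0 := fun k => Iff.rfl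
  have hdecW : ∀ x ∈ W, ∃ α β : F, ∃ k ∈ K, x = α • e + β • f + k := fun x hx => by
    refine ⟨rq a b f x, rq a b e x, x - rq a b f x • e - rq a b e x • f, (hK _).2 ⟨⟨?_, ?_⟩, ?_⟩, by abel⟩
    · exact W.sub_mem (W.sub_mem hx (W.smul_mem _ he)) (W.smul_mem _ hfW)
    · simp only [map_sub, map_smul, hee, hef, smul_eq_mul]; ring
    · simp only [map_sub, map_smul, hff, hsym f e, hef, smul_eq_mul]; ring
  -- the values on `f + k + s e`
  have hid : ∀ k ∈ K, B k k = lam * rq a b k k ∧ 2 * B f k = rq a b k k * B e k := by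
    intro k hk
    have step : ∀ k ∈ K, 2 * B f k + B k k + 2 * (-(rq a b k k) / 2) * (lam + B e k) = 0 := fun k hk => by
      obtain ⟨⟨hkW, hek⟩, hfk⟩ := (hK k).1 hk
      set s := -(rq a b k k) / 2 with hs
      have hz : rq a b (f + k + s • e) (f + k + s • e) = 0 := by
        rw [rq_self_shift hsa hsb, hee, mul_zero, add_zero, hsym (f + k) e, map_add (rq a b e), hef, hek]
        simp only [map_add, LinearMap.add_apply, hff, hfk, hsym k f, hs]
        field_simp
        ring
      have h := hQ0 _ (W.add_mem (W.add_mem hfW hkW) (W.smul_mem _ he)) hz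
      simp only [b_add_left, b_add_right, b_smul_left, b_smul_right, hBee, hBff, b_comm k f, b_comm k e,
        b_comm f e] at h
      rw [hlam]
      linear_combination h
    have h1 := step k hk
    have h1' := step (-k) (K.neg_mem hk)
    rw [← neg_one_smul F k] at h1'
    simp only [b_smul_left, b_smul_right, map_smul, LinearMap.smul_apply, smul_eq_mul] at h1'
    have e2 : (2 : F) * (-(rq a b k k) / 2) = -(rq a b k k) := by field_simp
    have e2' : (2 : F) * (-(-1 * (-1 * rq a b k k)) / 2) = -(rq a b k k) := by field_simp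
    rw [e2] at h1
    rw [e2'] at h1'
    refine ⟨mul_left_cancel₀ h2 (by linear_combination h1 + h1'), mul_left_cancel₀ h2 (by linear_combination h1 - h1')⟩
  have hzero : ∀ k ∈ K, B e k = 0 := by
    by_contra h
    push Not at h
    obtain ⟨k₀, hk₀, hek₀⟩ := h
    set μ := B f k₀ / B e k₀ with hμ
    have hphi : ∀ k ∈ K, B f k = μ * B e k := fun k hk => by
      set d := k + (-(B e k / B e k₀)) • k₀ with hd
      have hed : B e d = 0 := by rw [hd, b_add_right, b_smul_right]; field_simp; ring
      have h := (hid d (K.add_mem hk (K.smul_mem _ hk₀))).2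
      rw [hed, mul_zero, mul_eq_zero, or_iff_right h2, hd, b_add_right, b_smul_right] at h
      rw [hμ]
      field_simp at h ⊢
      linear_combination h
    have hval : ∀ k ∈ K, B e k ≠ 0 → rq a b k k = 2 * μ := fun k hk h => by
      have := (hid k hk).2
      rw [hphi k hk] at this
      exact mul_right_cancel₀ h (by linear_combination -this)
    have hd : ∀ d ∈ K, B e d = 0 → rq a b k₀ d = 0 ∧ rq a b d d = 0 := fun d hd hed => by
      have h1 := hval (k₀ + (1 : F) • d) (K.add_mem hk₀ (K.smul_mem _ hd))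
        (by rw [b_add_right, b_smul_right, hed, mul_zero, add_zero]; exact hek₀)
      have h1' := hval (k₀ + (-1 : F) • d) (K.add_mem hk₀ (K.smul_mem _ hd))
        (by rw [b_add_right, b_smul_right, hed, mul_zero, add_zero]; exact hek₀)
      have h0 := hval k₀ hk₀ hek₀
      rw [rq_self_shift hsa hsb] at h1 h1'
      have a1 : (2 : F) * (2 * rq a b k₀ d) = 0 := by linear_combination h1 - h1'
      have a2 : (2 : F) * rq a b d d = 0 := by linear_combination h1 + h1' - 2 * h0
      exact ⟨(mul_eq_zero.1 ((mul_eq_zero.1 a1).resolve_left h2)).resolve_left h2,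
        (mul_eq_zero.1 a2).resolve_left h2⟩
    have hKdim : 2 * n ≤ Module.finrank F K + 2 := by
      have hle : W ≤ (Submodule.span F {e} ⊔ Submodule.span F {f}) ⊔ K := fun x hx => by
        obtain ⟨α, β, k, hk, rfl⟩ := hdecW x hx
        exact Submodule.add_mem_sup (Submodule.add_mem_sup (Submodule.smul_mem _ _ (Submodule.mem_span_singleton_self e))
          (Submodule.smul_mem _ _ (Submodule.mem_span_singleton_self f))) hk
      have h1 := (Submodule.finrank_mono hle).trans (Submodule.finrank_add_le_finrank_add_finrank _ _)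
      have h3 := Submodule.finrank_add_le_finrank_add_finrank (Submodule.span F {e}) (Submodule.span F {f})
      have h4 : ∀ w : ι → F, Module.finrank F (Submodule.span F {w}) ≤ 1 := fun w =>
        (finrank_span_le_card ({w} : Set (ι → F))).trans (by simp)
      have := h4 e
      have := h4 f
      omega
    obtain ⟨d, hdK, hd0, hed, -⟩ := exists_mem_ker_two (C := K) (by omega) (QuadraticMap.polarBilin Q e) 0
    obtain ⟨hk0d, hdd⟩ := hd d hdK hed
    obtain ⟨⟨hdW, hed'⟩, hfd⟩ := (hK d).1 hdK
    refine hd0 (hrad d hdW fun y hy => ?_)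
    obtain ⟨α, β, k, hk, rfl⟩ := hdecW y hy
    set r := B e k / B e k₀ with hr
    have hd'e : B e (k + (-r) • k₀) = 0 := by rw [b_add_right, b_smul_right, hr]; field_simp; ring
    have hd'K : k + (-r) • k₀ ∈ K := K.add_mem hk (K.smul_mem _ hk₀)
    have h3 : rq a b d (k + (-r) • k₀) = 0 := by
      have hs := hd (d + (1 : F) • (k + (-r) • k₀)) (K.add_mem hdK (K.smul_mem _ hd'K))
        (by
          rw [b_add_right, b_smul_right, hd'e, mul_zero, add_zero]
          exact hed)
      have hs' := (hd _ hd'K hd'e).2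
      have hs1 := hs.2
      rw [rq_self_shift hsa hsb, hdd, hs'] at hs1
      exact (mul_eq_zero.1 (by linear_combination hs1 : (2 : F) * rq a b d (k + (-r) • k₀) = 0)).resolve_left h2
    rw [map_add, map_smul, hsym d k₀, hk0d, smul_zero, add_zero] at h3
    simp only [map_add, map_smul, hsym d e, hsym d f, hed', hfd, h3, smul_zero, add_zero]
  have hprop : ∀ x ∈ W, B x x = lam * rq a b x x := fun x hx => by
    obtain ⟨α, β, k, hk, rfl⟩ := hdecW x hx
    obtain ⟨⟨hkW, hek⟩, hfk⟩ := (hK k).1 hk
    have hBek := hzero k hk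
    have hBfk : B f k = 0 := by
      have := (hid k hk).2
      rwa [hBek, mul_zero, mul_eq_zero, or_iff_right h2] at this
    simp only [b_add_left, b_add_right, b_smul_left, b_smul_right, hBee, hBff, b_comm f e, b_comm k e, b_comm k f,
      hBek, hBfk, map_add, map_smul, LinearMap.add_apply, LinearMap.smul_apply, smul_eq_mul, hee, hff, hsym f e,
      hef, hsym k e, hek, hsym k f, hfk, (hid k hk).1, ← hlam]
    ring
  have hbil : ∀ x ∈ W, ∀ y ∈ W, B x y = lam * rq a b x y := fun x hx y hy => by
    have h := hprop (x + y) (W.add_mem hx hy)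
    simp only [b_add_left, b_add_right, map_add, LinearMap.add_apply, hprop x hx, hprop y hy, b_comm y x,
      hsym y x] at h
    exact mul_left_cancel₀ h2 (by linear_combination h)
  have heq : ∀ x ∈ W, x = lam • (ap a x - ap b x) := fun x hx => sub_eq_zero.1 (hB _ fun y => by
    obtain ⟨y', hy', r, rfl⟩ := hdecV y
    have hxv : B x v = 0 := by rw [b_comm]; exact (hmemW x).1 hx
    simp only [b_sub_left, b_smul_left, b_add_right, b_smul_right, hbil x hx y' hy', rq_apply,
      invol_b hsa x v, invol_b hsb x v, D.fixa, D.fixb, hxv]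
    ring)
  have hdisj : ∀ x, x ∈ W → ap a x = ap b x → x = 0 := fun x hx e => D.uniq x ((hmemW x).1 hx) e
  -- `a` acts as a scalar, impossible
  have key : ∀ x ∈ W, ∀ ε : F, ap a x = ε • x → ε * ε = 1 → x ≠ 0 → 2 * lam = ε := by
    intro x hx ε hax hε hx0
    have hlam0 : lam ≠ 0 := fun h => hx0 (by rw [heq x hx, h, zero_smul])
    have hbx : ap b x = (ε - lam⁻¹) • x := by
      have h : lam⁻¹ • x = ap a x - ap b x := by
        nth_rw 1 [heq x hx]
        rw [smul_smul, inv_mul_cancel₀ hlam0, one_smul]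
      rw [sub_smul, h, hax]; abel
    have h1 := invol_apply hsb x
    rw [hbx, ap_smul, hbx, smul_smul] at h1
    have h1' : (ε - lam⁻¹) * (ε - lam⁻¹) = 1 := by
      by_contra hne
      exact hx0 ((smul_eq_zero.1 (by rw [sub_smul, h1, one_smul, sub_self] :
        ((ε - lam⁻¹) * (ε - lam⁻¹) - 1) • x = 0)).resolve_left (sub_ne_zero.2 hne))
    field_simp at h1'
    have hfin : lam * (1 - 2 * ε * lam) = 0 := by linear_combination lam * h1' - lam * lam * lam * hε
    have h3 : (1 : F) - 2 * ε * lam = 0 := (mul_eq_zero.1 hfin).resolve_left hlam0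
    linear_combination (-ε) * h3 - (2 * lam) * hε
  obtain ⟨hna, -⟩ := D.pair.negdim S
  obtain ⟨⟨m, hm⟩, hm0⟩ := Module.finrank_pos_iff_exists_ne_zero.1 (show 0 < Module.finrank F (negSpace a) by omega)
  have k1 := key m ((hmemW m).2 (b_fix_neg h2 (mem_fixSpace.2 D.fixa) hm)) (-1)
    (by rw [neg_one_smul]; exact hm) (by ring) fun e => hm0 (Subtype.ext e)
  obtain ⟨p, hp, hp0, hvp, -⟩ := exists_mem_ker_two (C := fixSpace a) (by rw [D.pair.dima]; omega)
    (QuadraticMap.polarBilin Q v) 0
  have k2 := key p ((hmemW p).2 hvp) 1 (by rw [one_smul]; exact hp) (one_mul 1) hp0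
  exact h2 (by linear_combination k1 - k2)

/-- The case of an anisotropic fixed line. -/
theorem LineData.omComm (S : OddSetting Q n c) (D : LineData Q n c a b v) : OmComm Q (a * b) := by
  obtain ⟨u, hu, hR, hQ⟩ := D.exists_isotropic_aniso S
  by_cases hsq : IsSquare (c * Q u)
  · exact D.omComm_square' S hu hR hQ hsq
  have hflip : ∀ {a b : Grp Q}, LineData Q n c a b v → rq a b u u = 0 → ap a u = u → OmComm Q (a * b) := by
    intro a b D hR h
    obtain ⟨a', b', D', he, hfl⟩ := D.flip S
    obtain ⟨ea, eb⟩ := hfl u hu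
    rw [← he]
    refine D'.omComm_neg S hu ?_ hsq (by rw [ea, h])
    rw [rq_apply] at hR ⊢
    rw [ea, eb, ← neg_one_smul F (ap a u), ← neg_one_smul F (ap b u), b_smul_left, b_smul_left]
    linear_combination -hR
  have hR' : rq b a u u = 0 := by
    rw [rq_apply] at hR ⊢
    linear_combination -hR
  by_cases h1 : ap a u = u
  · exact hflip D hR h1
  by_cases h2 : ap b u = u
  · exact D.omComm_symm (hflip D.symm hR' h2)
  by_cases h3 : ap a u = -u
  · exact D.omComm_neg S hu hR hsq h3
  by_cases h4 : ap b u = -u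
  · exact D.omComm_symm (D.symm.omComm_neg S hu hR' hsq h4)
  exact D.omComm_nonsquare S hR hsq h1 h2 h3 h4

end CfsgLib.OrthReversal
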