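import Cfsg.Agent.Lib.SpComm.Geometry

/-!
Lemmas on isometries of symmetric forms (odd characteristic), used to build reversing involutions.
-/

set_option autoImplicit false
set_option linter.unusedSectionVars false

namespace CfsgLib.OrthReversal

open Polynomial Module
open CfsgLib.SpComm (ND Inv cyc mem_cyc self_mem_cyc cyc_inv poly_stable aeval_commute poly_symm poly_symm_zero
  poly_symm_mem exists_dual_of_ND nn nn_eq nn_comm nn_pow_comm nn_eigen poly_nn irreducible_reverse
  reverse_X_sub_C reverse_reverse' aeval_reflect)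

variable {F : Type*} [Field F] {V : Type*} [AddCommGroup V] [Module F V] [FiniteDimensional F V]

/-- A non-degenerate symmetric form with an isometry. -/
structure Iso (B : LinearMap.BilinForm F V) (T : V ≃ₗ[F] V) : Prop where
  symm : ∀ v w, B v w = B w v
  sep : ∀ v, (∀ w, B v w = 0) → v = 0
  iso : ∀ v w, B (T v) (T w) = B v w

variable {B : LinearMap.BilinForm F V} {T : V ≃ₗ[F] V}

theorem Iso.swap (hI : Iso B T) {v w : V} (h : B v w = 0) : B w v = 0 := by rw [hI.symm, h]

theorem Iso.adj (hI : Iso B T) (f : F[X]) (v w : V) :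
    B (aeval (T : End F V) f v) w = B v (aeval (T.symm : End F V) f w) := by
  induction f using Polynomial.induction_on generalizing v w with
  | C a => simp
  | add p q hp hq => simp [hp, hq]
  | monomial n a ih =>
    have e1 : ∀ z, aeval (T : End F V) (C a * X ^ (n + 1)) z = aeval (T : End F V) (C a * X ^ n) (T z) := fun z => by
      rw [pow_succ, ← mul_assoc, map_mul _ (C a * X ^ n) X, Module.End.mul_apply, aeval_X]; rfl
    have e2 : ∀ z, aeval (T.symm : End F V) (C a * X ^ (n + 1)) z = T.symm (aeval (T.symm : End F V) (C a * X ^ n) z) :=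
      fun z => by
      rw [pow_succ, ← mul_assoc, mul_comm _ X, map_mul _ X (C a * X ^ n), Module.End.mul_apply, aeval_X]; rfl
    rw [e1, e2, ih]
    conv_lhs => rw [← T.apply_symm_apply (aeval (T.symm : End F V) (C a * X ^ n) w)]
    rw [hI.iso]

theorem Iso.adj' (hI : Iso B T) (f : F[X]) (v w : V) :
    B (aeval (T.symm : End F V) f v) w = B v (aeval (T : End F V) f w) := by
  rw [hI.symm, ← hI.adj, hI.symm]


section Pair

variable {U : Submodule F V} {ε : F} {k : ℕ} {x y : V}

/-- Adjoint of the nilpotent part. -/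
theorem Iso.nn_adj (hI : Iso B T) (hε : ε = 1 ∨ ε = -1) (v w : V) :
    B v (nn T ε w) = -ε * B (T.symm (nn T ε v)) w := by
  have e : ε * ε = 1 := by rcases hε with rfl | rfl <;> ring
  simp only [nn, LinearMap.sub_apply, LinearEquiv.coe_coe, LinearMap.smul_apply, Module.End.one_apply, map_sub,
    map_smul, smul_eq_mul, T.symm_apply_apply]
  rw [show B (T.symm v) w = B v (T w) by simpa using hI.adj' X v w]
  linear_combination (-(B v (T w))) * e

theorem Iso.nn_pow_adj (hI : Iso B T) (hε : ε = 1 ∨ ε = -1) (b : ℕ) (v w : V) :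
    B v ((nn T ε ^ b) w) = (-ε) ^ b * B (((T.symm : End F V) ^ b) ((nn T ε ^ b) v)) w := by
  induction b generalizing w with
  | zero => simp
  | succ b ih =>
    have hc : nn T ε (((T.symm : End F V) ^ b) ((nn T ε ^ b) v)) =
        ((T.symm : End F V) ^ b) (nn T ε ((nn T ε ^ b) v)) := by
      have h : Commute (nn T ε) ((T.symm : End F V) ^ b) := by
        refine Commute.pow_right ?_ b
        refine LinearMap.ext fun z => ?_
        simp [nn]
      exact LinearMap.congr_fun h.eq _
    rw [pow_succ, Module.End.mul_apply, ih, hI.nn_adj hε, hc, pow_succ, ← pow_succ (nn T ε), pow_succ' (nn T ε),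
      pow_succ' (T.symm : End F V), Module.End.mul_apply, Module.End.mul_apply, mul_assoc]
    rfl

theorem Iso.nn_high (hI : Iso B T) (hε : ε = 1 ∨ ε = -1) (hk : ∀ u ∈ U, (nn T ε ^ k) u = 0) {a b : ℕ}
    (hab : k ≤ a + b) {v : V} (hv : v ∈ U) (w : V) : B ((nn T ε ^ a) v) ((nn T ε ^ b) w) = 0 := by
  have : (nn T ε ^ b) ((nn T ε ^ a) v) = 0 := by
    rw [← Module.End.mul_apply, ← pow_add, add_comm b a, show a + b = (a + b - k) + k by omega, pow_add,
      Module.End.mul_apply, hk v hv, map_zero]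
  rw [hI.nn_pow_adj hε, this, map_zero, map_zero, LinearMap.zero_apply, mul_zero]

theorem Iso.nn_top (hI : Iso B T) (hε : ε = 1 ∨ ε = -1) (hk : ∀ u ∈ U, (nn T ε ^ k) u = 0) {a b : ℕ}
    (hab : a + b + 1 = k) {v : V} (hv : v ∈ U) (w : V) :
    B ((nn T ε ^ a) v) ((nn T ε ^ b) w) = (-1) ^ b * B ((nn T ε ^ (k - 1)) v) w := by
  have e : ε * ε = 1 := by rcases hε with rfl | rfl <;> ring
  have hs : ∀ n : ℕ, ((T.symm : End F V) ^ n) ((nn T ε ^ (k - 1)) v) = ε ^ n • (nn T ε ^ (k - 1)) v := by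
    intro n
    induction n with
    | zero => simp
    | succ n ih =>
      rw [pow_succ', Module.End.mul_apply, ih, map_smul, LinearEquiv.coe_coe]
      conv_lhs => rw [show (nn T ε ^ (k - 1)) v = (ε * ε) • (nn T ε ^ (k - 1)) v by rw [e, one_smul], ← smul_smul,
        ← nn_eigen hk (by omega) hv, map_smul, T.symm_apply_apply, smul_smul, ← pow_succ]
  rw [hI.nn_pow_adj hε, ← Module.End.mul_apply (nn T ε ^ b), ← pow_add, show b + a = k - 1 by omega, hs, map_smul,
    LinearMap.smul_apply, smul_eq_mul, ← mul_assoc, ← mul_pow, neg_mul, e]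

theorem pair_ND (hI : Iso B T) (hU : Inv T U) (hε : ε = 1 ∨ ε = -1) (hk : ∀ u ∈ U, (nn T ε ^ k) u = 0)
    (hk1 : 1 ≤ k) (hzero : ∀ v ∈ U, B ((nn T ε ^ (k - 1)) v) v = 0) (hx : x ∈ U) (hy : y ∈ U)
    (hw : B ((nn T ε ^ (k - 1)) x) y = 1) : ND B (cyc T x ⊔ cyc T y) := by
  intro z hz hperp
  obtain ⟨_, hp, _, hq, rfl⟩ := Submodule.mem_sup.1 hz
  obtain ⟨p, rfl⟩ := mem_cyc.1 hp
  obtain ⟨q, rfl⟩ := mem_cyc.1 hq
  -- all `z` in the radical lie in every power of the image
  suffices H : ∀ i, i ≤ k → ∃ p' q' : F[X], aeval (T : End F V) p x + aeval (T : End F V) q y =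
      (nn T ε ^ i) (aeval (T : End F V) p' x + aeval (T : End F V) q' y) by
    obtain ⟨p', q', e⟩ := H k le_rfl
    rw [e]
    exact hk _ (U.add_mem (hU.poly_mem _ hx) (hU.poly_mem _ hy))
  intro i
  induction i with
  | zero => exact fun _ => ⟨p, q, by simp⟩
  | succ i ih =>
    intro hi
    obtain ⟨p', q', e⟩ := ih (by omega)
    obtain ⟨p'', hp''⟩ := poly_nn (T := T) (ε := ε) p' x
    obtain ⟨q'', hq''⟩ := poly_nn (T := T) (ε := ε) q' y
    have hyx : B ((nn T ε ^ (k - 1)) y) x = -1 := by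
      have := hzero (x + y) (U.add_mem hx hy)
      simp only [map_add, LinearMap.add_apply, hzero x hx, hzero y hy, hw, zero_add, add_zero] at this
      linear_combination this
    have hpair : ∀ v : V, v ∈ cyc T x ⊔ cyc T y → v ∈ U →
        p'.eval ε * B ((nn T ε ^ (k - 1)) x) v + q'.eval ε * B ((nn T ε ^ (k - 1)) y) v = 0 := by
      intro v hv hvU
      have hmem : (nn T ε ^ (k - 1 - i)) v ∈ cyc T x ⊔ cyc T y := by
        rw [nn_eq, ← map_pow]
        refine Inv.poly_mem (fun u hu => ?_) _ hv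
        obtain ⟨a, ha, b, hb, rfl⟩ := Submodule.mem_sup.1 hu
        rw [map_add]
        exact Submodule.add_mem_sup (cyc_inv x a ha) (cyc_inv y b hb)
      have h0 := hperp _ hmem
      rw [e, hp'', hq''] at h0
      simp only [map_add, map_smul, LinearMap.add_apply, LinearMap.smul_apply, smul_eq_mul] at h0
      have hs : ∀ u, (nn T ε ^ i) (nn T ε u) = (nn T ε ^ (i + 1)) u := fun u => by
        rw [pow_succ, Module.End.mul_apply]
      rw [hs, hs,
        hI.nn_high hε hk (by omega) (hU.poly_mem _ hx), hI.nn_high hε hk (by omega) (hU.poly_mem _ hy),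
        add_zero, add_zero, hI.nn_top hε hk (by omega) hx, hI.nn_top hε hk (by omega) hy] at h0
      have h1 : (-1 : F) ^ (k - 1 - i) ≠ 0 := pow_ne_zero _ (by simp)
      refine (mul_eq_zero.1 ?_).resolve_left h1
      linear_combination h0
    have h1 := hpair y (Submodule.mem_sup_right (self_mem_cyc y)) hy
    have h2 := hpair x (Submodule.mem_sup_left (self_mem_cyc x)) hx
    rw [hw, hzero y hy] at h1
    rw [hzero x hx, hyx] at h2
    refine ⟨p'', q'', ?_⟩
    rw [e, hp'', hq'', pow_succ, Module.End.mul_apply, map_add (nn T ε)]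
    rw [show p'.eval ε = 0 by linear_combination h1, show q'.eval ε = 0 by linear_combination -h2]
    simp


end Pair

/-- The annihilator data on an indecomposable invariant subspace. -/
structure Prime' (B : LinearMap.BilinForm F V) (T : V ≃ₗ[F] V) (U : Submodule F V) (μ p r : F[X]) : Prop where
  inv : Inv T U
  nd : ND B U
  ann : ∀ u ∈ U, aeval (T : End F V) μ u = 0
  low : ∀ f : F[X], (∀ u ∈ U, aeval (T : End F V) f u = 0) → μ ∣ f
  irr : Irreducible p
  coeff : p.coeff 0 ≠ 0
  fac : μ = p * r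
  pow : ∃ n, μ ∣ (p * p.reverse) ^ n

variable {U : Submodule F V} {μ p r : F[X]}

theorem Prime'.rev_dvd (hI : Iso B T) (h : Prime' B T U μ p r) : μ ∣ μ.reverse := h.low _ fun u hu => by
  rw [← poly_symm_zero]
  exact h.nd _ (h.inv.poly_symm_mem μ hu) fun v hv => by rw [hI.adj', h.ann v hv, map_zero]

/-- A cofactor of an irreducible factor. -/
theorem Prime'.cofactor (hI : Iso B T) (h : Prime' B T U μ p r) {q s : F[X]} (hqi : Irreducible q)
    (hs : μ = q * s) : s ∣ r ∨ s ∣ r.reverse := by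
  obtain ⟨n, hn⟩ := h.pow
  have hq : Associated q p ∨ Associated q p.reverse :=
    (hqi.prime.dvd_or_dvd (hqi.prime.dvd_of_dvd_pow ((Dvd.intro s hs.symm).trans hn))).imp
      (hqi.associated_of_dvd h.irr) (hqi.associated_of_dvd (irreducible_reverse h.irr h.coeff))
  rcases hq with ⟨c, hc⟩ | ⟨c, hc⟩
  · left
    refine ⟨↑c⁻¹, ?_⟩
    have : q * s = q * (↑c * r) := by rw [← hs, h.fac, ← hc, mul_assoc]
    rw [mul_left_cancel₀ hqi.ne_zero this, mul_comm (↑c : F[X]), mul_assoc, Units.mul_inv, mul_one]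
  · right
    have h1 : q * s ∣ q * (↑c * r.reverse) := by
      rw [← hs, ← mul_assoc, hc, ← reverse_mul_of_domain, ← h.fac]; exact h.rev_dvd hI
    exact Units.dvd_mul_left.1 ((mul_dvd_mul_iff_left hqi.ne_zero).1 h1)

/-- No cofactor sends `x` into a subspace orthogonal to its orbit. -/
theorem not_mem_perp (hI : Iso B T) {x : V}
    (hB : B (aeval (T : End F V) r x) x ≠ 0 ∨ B (T (aeval (T : End F V) r x)) x ≠ 0) {s : F[X]}
    (hs : s ∣ r ∨ s ∣ r.reverse) {R : Submodule F V} (hR : Inv T R)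
    (hperp : ∀ u ∈ R, B u x = 0) : aeval (T : End F V) s x ∉ R := by
  intro hmem
  rcases hs with ⟨c, hc⟩ | ⟨c, hc⟩
  · have hrx : aeval (T : End F V) r x ∈ R := by
      rw [hc, mul_comm, map_mul, Module.End.mul_apply]; exact hR.poly_mem _ hmem
    exact hB.elim (fun h => h (hperp _ hrx)) fun h => h (hperp _ (hR _ hrx))
  · have hrx : aeval (T.symm : End F V) r x ∈ R := by
      refine poly_symm_mem hR r ?_
      rw [hc, mul_comm, map_mul, Module.End.mul_apply]; exact hR.poly_mem _ hmem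
    refine hB.elim (fun h => h (by rw [hI.adj]; exact hI.swap (hperp _ hrx))) fun h => h ?_
    have e : B (T (aeval (T : End F V) r x)) x = B (aeval (T : End F V) r x) (T.symm x) := by
      simpa using hI.adj X (aeval (T : End F V) r x) x
    have hc2 : aeval (T.symm : End F V) r (T.symm x) = T.symm (aeval (T.symm : End F V) r x) :=
      (LinearMap.congr_fun (aeval_commute (Commute.refl (T.symm : End F V)) r).eq x).symm
    rw [e, hI.adj, hc2]
    exact hI.swap (hperp _ (hR.symm_mem hrx))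

theorem Prime'.ann_point (hI : Iso B T) (h : Prime' B T U μ p r) {x : V} (hx : x ∈ U)
    (hB : B (aeval (T : End F V) r x) x ≠ 0 ∨ B (T (aeval (T : End F V) r x)) x ≠ 0) {f : F[X]}
    (hf : aeval (T : End F V) f x = 0) : μ ∣ f := by
  classical
  by_contra hnd'
  have hg : aeval (T : End F V) (EuclideanDomain.gcd f μ) x = 0 := by
    rw [EuclideanDomain.gcd_eq_gcd_ab, map_add, LinearMap.add_apply, mul_comm f, mul_comm μ, map_mul, map_mul,
      Module.End.mul_apply, Module.End.mul_apply, hf, h.ann x hx, map_zero, map_zero, add_zero]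
  obtain ⟨c, hc⟩ := EuclideanDomain.gcd_dvd_right f μ
  have hcu : ¬ IsUnit c := fun hu => hnd' <| by
    calc μ ∣ EuclideanDomain.gcd f μ := (dvd_of_eq hc).trans (hu.mul_right_dvd.2 dvd_rfl)
      _ ∣ f := EuclideanDomain.gcd_dvd_left f μ
  obtain ⟨q, -, hqi, c₂, rfl⟩ := Polynomial.exists_monic_irreducible_factor c hcu
  refine not_mem_perp hI hB (h.cofactor hI hqi (s := EuclideanDomain.gcd f μ * c₂) (hc.trans (by ring)))
    (R := ⊥) (fun u hu => by rw [Submodule.mem_bot] at hu ⊢; rw [hu, map_zero])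
    (fun u hu => by rw [(Submodule.mem_bot F).1 hu, map_zero, LinearMap.zero_apply]) ?_
  rw [Submodule.mem_bot, mul_comm, map_mul, Module.End.mul_apply, hg, map_zero]

theorem Prime'.cyc_ND (hI : Iso B T) (h : Prime' B T U μ p r) {x : V} (hx : x ∈ U)
    (hB : B (aeval (T : End F V) r x) x ≠ 0 ∨ B (T (aeval (T : End F V) r x)) x ≠ 0) : ND B (cyc T x) := by
  intro z hz hperp
  by_contra hz0
  set R : Submodule F V := cyc T x ⊓ ⨅ v : cyc T x, LinearMap.ker ((LinearMap.flip B) (v : V))
  have hmemR : ∀ u, u ∈ R ↔ u ∈ cyc T x ∧ ∀ v ∈ cyc T x, B u v = 0 := fun u => by simp [R]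
  have hR : Inv T R := fun u hu => by
    rw [hmemR] at hu ⊢
    exact ⟨cyc_inv x u hu.1, fun v hv => by
      rw [← T.apply_symm_apply v, hI.iso]; exact hu.2 _ ((cyc_inv x).symm_mem hv)⟩
  obtain ⟨n, hn⟩ := h.pow
  -- an element of `R` killed by an irreducible
  obtain ⟨q, hqi, z', hz', hz'0, hqz⟩ : ∃ q : F[X], Irreducible q ∧ ∃ z' ∈ R, z' ≠ 0 ∧
      aeval (T : End F V) q z' = 0 := by
    by_contra hc
    push Not at hc
    have key : ∀ m : ℕ, ∀ u ∈ R, aeval (T : End F V) ((p * p.reverse) ^ m) u = 0 → u = 0 := by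
      intro m
      induction m with
      | zero => intro u _ h'; simpa using h'
      | succ m ih =>
        intro u hu h'
        rw [pow_succ, map_mul, Module.End.mul_apply] at h'
        have h1 := ih _ (hR.poly_mem _ hu) h'
        rw [map_mul, Module.End.mul_apply] at h1
        by_contra hu0
        by_cases h2 : aeval (T : End F V) p.reverse u = 0
        · exact hc _ (irreducible_reverse h.irr h.coeff) u hu hu0 h2
        · exact hc _ h.irr _ (hR.poly_mem _ hu) h2 h1
    obtain ⟨c, hc'⟩ := hn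
    refine hz0 (key n z ((hmemR z).2 ⟨hz, hperp⟩) ?_)
    rw [hc', mul_comm, map_mul, Module.End.mul_apply, h.ann z (h.inv.cyc_le hx hz), map_zero]
  obtain ⟨f, rfl⟩ := mem_cyc.1 ((hmemR z').1 hz').1
  rw [← Module.End.mul_apply, ← map_mul] at hqz
  have hdiv := h.ann_point hI hx hB hqz
  have hqμ : q ∣ μ := by
    by_contra hn'
    refine hz'0 ?_
    obtain ⟨c, hc⟩ := (hqi.coprime_iff_not_dvd.2 hn').symm.dvd_of_dvd_mul_left hdiv
    rw [hc, mul_comm, map_mul, Module.End.mul_apply, h.ann x hx, map_zero]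
  obtain ⟨s, hs⟩ := hqμ
  rw [hs] at hdiv
  obtain ⟨t, rfl⟩ := (mul_dvd_mul_iff_left hqi.ne_zero).1 hdiv
  have hqt : ¬ q ∣ t := by
    rintro ⟨c, rfl⟩
    refine hz'0 ?_
    rw [show s * (q * c) = c * μ by rw [hs]; ring, map_mul, Module.End.mul_apply, h.ann x hx, map_zero]
  obtain ⟨a, b, hab⟩ := hqi.coprime_iff_not_dvd.2 hqt
  refine not_mem_perp hI hB (h.cofactor hI hqi hs) hR (fun u hu => ((hmemR u).1 hu).2 x (self_mem_cyc x)) ?_
  have : aeval (T : End F V) s x = aeval (T : End F V) b (aeval (T : End F V) (s * t) x) := by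
    conv_lhs => rw [show s = b * (s * t) + a * μ by rw [hs]; linear_combination (-s) * hab]
    rw [map_add, LinearMap.add_apply, map_mul _ b, map_mul _ a, Module.End.mul_apply, Module.End.mul_apply,
      h.ann x hx, map_zero, add_zero]
  rw [this]
  exact hR.poly_mem _ hz'

theorem Prime'.exists_eigen (hI : Iso B T) (h : Prime' B T U μ p r) (hr0 : r ≠ 0) (hpm : p.Monic) (hμm : μ.Monic)
    (hex : ∀ x ∈ U, B (aeval (T : End F V) r x) x = 0 ∧ B (T (aeval (T : End F V) r x)) x = 0) :
    ∃ (ε : F) (k : ℕ), (ε = 1 ∨ ε = -1) ∧ p = X - C ε ∧ μ = p ^ k := by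
  have hU := h.inv
  have hpol : ∀ (S : End F V), (∀ v ∈ U, B (S v) v = 0) → ∀ u ∈ U, ∀ v ∈ U, B (S u) v = - B (S v) u := by
    intro S hS u hu v hv
    have := hS (u + v) (U.add_mem hu hv)
    simp only [map_add, LinearMap.add_apply, hS u hu, hS v hv] at this
    linear_combination this
  have hr1 : ∀ u ∈ U, aeval (T : End F V) r u = - aeval (T.symm : End F V) r u := by
    intro u hu
    refine eq_neg_iff_add_eq_zero.2
      (h.nd _ (U.add_mem (hU.poly_mem _ hu) (hU.poly_symm_mem _ hu)) fun v hv => ?_)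
    rw [map_add, LinearMap.add_apply, hI.adj', hI.symm u, hpol _ (fun w hw => (hex w hw).1) u hu v hv,
      neg_add_cancel]
  have hr2 : ∀ u ∈ U, T (aeval (T : End F V) r u) = T.symm (aeval (T : End F V) r u) := by
    intro u hu
    have hru := hU.poly_mem r hu
    refine sub_eq_zero.1 (h.nd _ (U.sub_mem (hU _ hru) (hU.symm_mem hru)) fun v hv => ?_)
    have h3 := hpol ((T : End F V) * aeval (T : End F V) r) (fun w hw => (hex w hw).2) u hu v hv
    simp only [Module.End.mul_apply, LinearEquiv.coe_coe] at h3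
    have e1 : B (T.symm (aeval (T.symm : End F V) r u)) v = B (aeval (T.symm : End F V) r u) (T v) := by
      simpa using hI.adj' X (aeval (T.symm : End F V) r u) v
    have e2 : aeval (T : End F V) r (T v) = T (aeval (T : End F V) r v) :=
      (LinearMap.congr_fun (aeval_commute (Commute.refl (T : End F V)) r).eq v).symm
    rw [map_sub, LinearMap.sub_apply, sub_eq_zero, h3, hr1 u hu, map_neg, map_neg, LinearMap.neg_apply, neg_inj,
      e1, hI.adj', e2, hI.symm u]
  have hdvd : p ∣ X ^ 2 - 1 := by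
    have h2 : μ ∣ (X ^ 2 - 1) * r := h.low _ fun u hu => by
      rw [map_mul, Module.End.mul_apply, map_sub, map_pow, aeval_X, map_one, LinearMap.sub_apply, sq,
        Module.End.mul_apply, Module.End.one_apply, LinearEquiv.coe_coe, hr2 u hu, T.apply_symm_apply, sub_self]
    rw [h.fac] at h2
    exact (mul_dvd_mul_iff_right hr0).1 h2
  obtain ⟨ε, hε, hpε⟩ : ∃ ε : F, (ε = 1 ∨ ε = -1) ∧ p = X - C ε := by
    rw [show (X ^ 2 - 1 : F[X]) = (X - C 1) * (X - C (-1)) by rw [map_neg, map_one]; ring] at hdvd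
    rcases h.irr.prime.dvd_or_dvd hdvd with h' | h'
    · exact ⟨1, Or.inl rfl, eq_of_monic_of_associated hpm (monic_X_sub_C _)
        (h.irr.associated_of_dvd (irreducible_X_sub_C _) h')⟩
    · exact ⟨-1, Or.inr rfl, eq_of_monic_of_associated hpm (monic_X_sub_C _)
        (h.irr.associated_of_dvd (irreducible_X_sub_C _) h')⟩
  obtain ⟨n, hn⟩ := h.pow
  have hrev : p.reverse ∣ p := by
    refine ⟨C (-ε), ?_⟩
    have : (C ε : F[X]) * C ε = 1 := by
      rw [← map_mul]; rcases hε with h' | h' <;> simp [h']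
    rw [hpε, reverse_X_sub_C, map_neg]
    linear_combination (-X) * this
  have h1 : μ ∣ (p * p) ^ n := hn.trans (pow_dvd_pow_of_dvd (mul_dvd_mul_left p hrev) n)
  rw [← sq, ← pow_mul] at h1
  obtain ⟨i, -, hi⟩ := (dvd_prime_pow h.irr.prime _).1 h1
  exact ⟨ε, i, hε, hpε, eq_of_monic_of_associated hμm (hpm.pow i) hi⟩


end CfsgLib.OrthReversal
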