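import Cfsg.Agent.Lib.OrthReversal.Invol

/-!
A product of two conjugate involutions of an odd dimensional orthogonal group, lying in `Ω`, is a commutator
in `Ω` as soon as a suitable anisotropic vector exists.
-/

set_option autoImplicit false
set_option linter.unusedSectionVars false

namespace CfsgLib.OrthReversal

open CfsgLib.Orth
open Matrix

variable {F : Type*} [Field F] [Finite F] {ι : Type} [Fintype ι] [DecidableEq ι]
variable {Q : QuadraticForm F (ι → F)}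

local notation "B" => QuadraticMap.polar (DFunLike.coe Q)

/-- A commutator of two elements of `Ω`. -/
def OmComm (Q : QuadraticForm F (ι → F)) (g : Grp Q) : Prop :=
  ∃ x ∈ Cfsg.Omega F ⇑Q, ∃ y ∈ Cfsg.Omega F ⇑Q, g = x * y * x⁻¹ * y⁻¹

theorem OmComm.inv {g : Grp Q} (h : OmComm Q g) : OmComm Q g⁻¹ := by
  obtain ⟨x, hx, y, hy, rfl⟩ := h
  exact ⟨y, hy, x, hx, by group⟩

/-- The odd dimensional space; `c` describes which `-r_w` lie in `Ω`. -/
structure OddSetting (Q : QuadraticForm F (ι → F)) (n : ℕ) (c : F) : Prop where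
  nondeg : Nondeg Q
  two : (2 : F) ≠ 0
  dim : Module.finrank F (ι → F) = 2 * n + 1
  three : 3 ≤ n
  c_ne : c ≠ 0
  cls : ∀ (w : ι → F) (r m : Grp Q), IsRefl w r → (∀ x, ap m x = -x) →
    (m * r ∈ Cfsg.Omega F ⇑Q ↔ IsSquare (c * Q w))

/-- Two involutions whose product lies in `Ω`. -/
structure InvPair (Q : QuadraticForm F (ι → F)) (n : ℕ) (a b : Grp Q) : Prop where
  sqa : a * a = 1
  sqb : b * b = 1
  dima : Module.finrank F (fixSpace a) = n + 1
  dimb : Module.finrank F (fixSpace b) = n + 1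
  mem : a * b ∈ Cfsg.Omega F ⇑Q

variable {n : ℕ} {c : F} {a b : Grp Q}

theorem InvPair.symm (P : InvPair Q n a b) : InvPair Q n b a :=
  ⟨P.sqb, P.sqa, P.dimb, P.dima, by
    have : b * a = (a * b)⁻¹ := by
      rw [_root_.mul_inv_rev, inv_eq_of_mul_eq_one_right P.sqa, inv_eq_of_mul_eq_one_right P.sqb]
    rw [this]; exact inv_mem P.mem⟩

theorem InvPair.negdim (S : OddSetting Q n c) (P : InvPair Q n a b) :
    Module.finrank F (negSpace a) = n ∧ Module.finrank F (negSpace b) = n := by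
  have h1 := fix_add_neg S.two P.sqa
  have h2' := fix_add_neg S.two P.sqb
  rw [S.dim, P.dima] at h1
  rw [S.dim, P.dimb] at h2'
  omega

theorem fix_iff_of_decomp (h2 : (2 : F) ≠ 0) {w p m : ι → F} (hp : p ∈ fixSpace a)
    (hm : m ∈ negSpace a) (hw : w = p + m) : (p = 0 ↔ ap a w = -w) ∧ (m = 0 ↔ ap a w = w) := by
  subst hw
  rw [ap_add, mem_fixSpace.1 hp, mem_negSpace.1 hm]
  refine ⟨⟨fun h => by rw [h]; abel, fun h => two_smul_eq_zero h2 ?_⟩,
    ⟨fun h => by rw [h]; abel, fun h => two_smul_eq_zero h2 ?_⟩⟩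
  · calc p + p = (p + -m) - -(p + m) := by abel
      _ = 0 := by rw [h, sub_self]
  · calc m + m = (p + m) - (p + -m) := by abel
      _ = 0 := by rw [h, sub_self]

theorem q_fix_part (h2 : (2 : F) ≠ 0) {w p m : ι → F} (hp : p ∈ fixSpace a)
    (hm : m ∈ negSpace a) (hw : w = p + m) : B (ap a w) w + 2 * Q w = 4 * Q p ∧
      2 * Q w - B (ap a w) w = 4 * Q m := by
  subst hw
  rw [ap_add, mem_fixSpace.1 hp, mem_negSpace.1 hm, q_add, b_fix_neg h2 hp hm, ← sub_eq_add_neg]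
  simp only [b_sub_left, b_add_right, b_self, b_fix_neg h2 hp hm, b_comm m p]
  constructor <;> ring

/-- The main construction. -/
theorem omComm_of_vector (S : OddSetting Q n c) (P : InvPair Q n a b) {w : ι → F}
    (hw : ¬ IsSquare (c * Q w)) (hR : B (ap a w) w = B (ap b w) w)
    (hfix : ap a w = w ↔ ap b w = w) (hneg : ap a w = -w ↔ ap b w = -w) : OmComm Q (a * b) := by
  have hB := S.nondeg
  have h2 := S.two
  have hN5 : 5 ≤ Module.finrank F (ι → F) := by rw [S.dim]; have := S.three; omega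
  have hN2 : 2 ≤ Module.finrank F (ι → F) := by omega
  have h4 : (4 : F) ≠ 0 := by
    intro h
    exact h2 (mul_self_eq_zero.1 (by linear_combination h))
  obtain ⟨hna, hnb⟩ := P.negdim S
  obtain ⟨hΩ, -, -⟩ := omega_eq_ker_psi hB h2 hN2 (one_ne_zero (α := F))
  have hker : ∀ x : Grp Q, x ∈ Cfsg.Omega F ⇑Q ↔ dickson hB x = 1 ∧ spinor Q 1 x = 1 := fun x => by
    rw [hΩ, MonoidHom.mem_ker, CfsgLib.Orth.psi, MonoidHom.prod_apply, Prod.ext_iff]
    rfl
  obtain ⟨hd, hs⟩ := (hker _).1 P.mem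
  rw [map_mul, mul_eq_one_iff_eq_inv, Int.units_inv_eq_self] at hs
  obtain ⟨c₀, hc₀⟩ := exists_conj_invol hB h2 hN2 n a b P.sqa P.sqb hna hnb hs
  obtain ⟨p, hp, m, hm, hwpm, -, -⟩ := invol_decomp h2 P.sqa w
  obtain ⟨p', hp', m', hm', hwpm', -, -⟩ := invol_decomp h2 P.sqb w
  obtain ⟨k1, k2⟩ := fix_iff_of_decomp h2 hp hm hwpm
  obtain ⟨k1', k2'⟩ := fix_iff_of_decomp h2 hp' hm' hwpm'
  obtain ⟨e1, e2⟩ := q_fix_part h2 hp hm hwpm
  obtain ⟨e1', e2'⟩ := q_fix_part h2 hp' hm' hwpm'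
  have hconj : ∀ x, ap b (ap c₀ x) = ap c₀ (ap a x) := fun x => by
    rw [← hc₀, ap_mul, ap_mul, ap_inv_ap]
  have hp₀ : ap c₀ p ∈ fixSpace b := by rw [mem_fixSpace, hconj, mem_fixSpace.1 hp]
  have hm₀ : ap c₀ m ∈ negSpace b := by rw [mem_negSpace, hconj, mem_negSpace.1 hm, ap_neg]
  have hz : ∀ (g : Grp Q) (x : ι → F), ap g x = 0 ↔ x = 0 :=
    fun g x => ⟨fun h => ap_inj g (by rw [h, ap_zero]), fun h => by rw [h, ap_zero]⟩
  obtain ⟨h₁, hh₁, h₁p, h₁fix⟩ := exists_move_eigen hB h2 P.sqb (Or.inl ⟨hp₀, hp'⟩)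
    (by rw [ap_q]; exact mul_left_cancel₀ h4 (by rw [← e1, ← e1', hR]))
    (by rw [hz, k1, k1', hneg])
  have hm₁ : ap h₁ (ap c₀ m) ∈ negSpace b := by
    rw [mem_negSpace, ← ap_mul, ← hh₁.eq, ap_mul, mem_negSpace.1 hm₀, ap_neg]
  obtain ⟨h₂, hh₂, h₂m, h₂fix⟩ := exists_move_eigen hB h2 P.sqb (Or.inr ⟨hm₁, hm'⟩)
    (by rw [ap_q, ap_q]; exact mul_left_cancel₀ h4 (by rw [← e2, ← e2', hR]))
    (by rw [hz, hz, k2, k2', hfix])
  set c₁ := h₂ * h₁ * c₀ with hc₁
  have hc₁b : c₁ * a * c₁⁻¹ = b := by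
    rw [hc₁, show h₂ * h₁ * c₀ * a * (h₂ * h₁ * c₀)⁻¹ = h₂ * (h₁ * (c₀ * a * c₀⁻¹) * h₁⁻¹) * h₂⁻¹ by group,
      hc₀, hh₁.eq, mul_inv_cancel_right, hh₂.eq, mul_inv_cancel_right]
  have hc₁w : ap c₁ w = w := by
    have hm1 : ap h₂ p' = p' := by
      by_cases hu : ap h₁ (ap c₀ m) = 0
      · exact h₂fix p' (Or.inr ⟨hp', by rw [hu]; exact Submodule.zero_mem _⟩)
      · exact h₂fix p' (Or.inr ⟨hp', hm₁⟩)
    nth_rw 1 [hwpm]
    rw [hc₁, ap_mul, ap_mul, ap_add, ap_add, ap_add, h₁p, h₂m, hm1, ← hwpm']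
  -- adjust into `Ω`
  have hw0 : w ≠ 0 := fun e => hw (by rw [e, QuadraticMap.map_zero, mul_zero]; exact IsSquare.zero)
  set R := fixSpace a ⊓ orth Q (Submodule.span F {w}) with hRdef
  have hRdim : n ≤ Module.finrank F R := by
    have := finrank_relOrth hB (fixSpace a) (Submodule.span F {w})
    rw [finrank_span_singleton hw0, P.dima] at this
    rw [hRdef]; unfold relOrth at this; omega
  have hRuniv : Univ Q R := by
    refine univ_of_dim ?_
    have hle : R ⊓ orth Q R ≤ orth Q (R ⊔ negSpace a) := fun x hx y hy => by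
      obtain ⟨u, hu, v, hv, rfl⟩ := Submodule.mem_sup.1 hy
      show B (u + v) x = 0
      rw [b_add_left, hx.2 u hu |> fun h => (show B u x = 0 from h), b_comm v x, b_fix_neg h2 hx.1.1 hv, add_zero]
    have hinf : R ⊓ negSpace a = ⊥ :=
      (Submodule.eq_bot_iff _).2 fun x hx => eq_zero_of_fix_neg h2 hx.1.1 hx.2
    have h1 := Submodule.finrank_sup_add_finrank_inf_eq R (negSpace a)
    rw [hinf, finrank_bot, hna] at h1
    have h3 := finrank_orth hB (R ⊔ negSpace a)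
    rw [S.dim] at h3
    have := Submodule.finrank_mono hle
    have := S.three
    omega
  obtain ⟨h, hhfix, hhΩ⟩ := exists_adjust hB hN5 hRuniv c₁
  have hha : Commute h a := commute_of_fix hB h2 P.sqa
    (Or.inl fun y hy => hhfix y fun r hr => b_fix_neg h2 hr.1 hy)
  set c₂ := c₁ * h with hc₂
  have hc₂b : c₂ * a * c₂⁻¹ = b := by
    rw [hc₂, show c₁ * h * a * (c₁ * h)⁻¹ = c₁ * (h * a * h⁻¹) * c₁⁻¹ by group, hha.eq, mul_inv_cancel_right, hc₁b]
  have hc₂w : ap c₂ w = w := by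
    rw [hc₂, ap_mul, hhfix w fun r hr => by rw [b_comm]; exact mem_orth.1 hr.2 w (Submodule.mem_span_singleton_self w),
      hc₁w]
  -- the centraliser of `c₂` meets every coset
  have hQw : Q w ≠ 0 := fun e => hw (by rw [e, mul_zero]; exact IsSquare.zero)
  obtain ⟨r, hr⟩ := exists_refl hB hQw
  obtain ⟨mo, hmo⟩ := exists_iso hB (-LinearMap.id) fun x => by simp [QuadraticMap.map_neg]
  replace hmo : ∀ x, ap mo x = -x := fun x => by rw [hmo]; simp
  have hmc : ∀ g : Grp Q, Commute mo g := fun g => ext_ap fun x => by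
    rw [ap_mul, ap_mul, hmo, hmo, ap_neg]
  have hrc : Commute r c₂ := ext_ap fun x => by
    rw [ap_mul r c₂, ap_mul c₂ r, hr.2, hr.2 x, ap_sub, ap_smul, hc₂w]
    congr 3
    nth_rw 1 [← hc₂w]
    exact ap_b c₂ w x
  have hdm : dickson hB mo = -1 := by
    have hm1 : mo * mo = 1 := ext_ap fun x => by rw [ap_mul, hmo, hmo, neg_neg, ap_one]
    have : negSpace mo = ⊤ := eq_top_iff.2 fun x _ => hmo x
    rw [dickson_invol' hB h2 hm1, this, finrank_top, S.dim]
    exact Odd.neg_one_pow (odd_two_mul_add_one n)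
  have hdr := dickson_refl hB hr
  have hsmr : spinor Q 1 mo ≠ spinor Q 1 r := fun e => (mt (S.cls w r mo hr hmo).1 hw) ((hker _).2
    ⟨by rw [map_mul, hdm, hdr]; rfl, by rw [map_mul, e, Int.units_mul_self]⟩)
  obtain ⟨y, hyc, hyΩ⟩ : ∃ y, Commute y c₂ ∧ a * y ∈ Cfsg.Omega F ⇑Q := by
    simp only [hker, map_mul]
    rcases Int.units_eq_one_or (dickson hB a) with d | d <;> rcases Int.units_eq_one_or (spinor Q 1 a) with s | s
    · exact ⟨1, Commute.one_left _, by simp [d], by simp [s]⟩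
    · refine ⟨mo * r, (hmc c₂).mul_left hrc, by simp [d, hdm, hdr], ?_⟩
      rcases Int.units_eq_one_or (spinor Q 1 mo) with x | x <;> rcases Int.units_eq_one_or (spinor Q 1 r) with y | y <;>
        simp [s, x, y] at hsmr ⊢
    · rcases Int.units_eq_one_or (spinor Q 1 mo) with x | x
      · exact ⟨mo, hmc c₂, by simp [d, hdm], by simp [s, x]⟩
      · refine ⟨r, hrc, by simp [d, hdr], ?_⟩
        rcases Int.units_eq_one_or (spinor Q 1 r) with y | y
        · simp [s, y]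
        · exact absurd (x.trans y.symm) hsmr
    · rcases Int.units_eq_one_or (spinor Q 1 mo) with x | x
      · refine ⟨r, hrc, by simp [d, hdr], ?_⟩
        rcases Int.units_eq_one_or (spinor Q 1 r) with y | y
        · exact absurd (x.trans y.symm) hsmr
        · simp [s, y]
      · exact ⟨mo, hmc c₂, by simp [d, hdm], by simp [s, x]⟩
  refine ⟨a * y, hyΩ, c₂, hhΩ, ?_⟩
  have ha' : a⁻¹ = a := inv_eq_of_mul_eq_one_right P.sqa
  calc a * b = a * (c₂ * a * c₂⁻¹) := by rw [hc₂b]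
    _ = a * c₂ * a⁻¹ * c₂⁻¹ := by rw [ha']; group
    _ = a * (y * c₂ * y⁻¹) * a⁻¹ * c₂⁻¹ := by rw [hyc.eq, mul_inv_cancel_right]
    _ = a * y * c₂ * (a * y)⁻¹ * c₂⁻¹ := by group

end CfsgLib.OrthReversal
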