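import Cfsg.Agent.Lib.OrthReversal.Eigen

/-!
The reversing involution on a non-degenerate cyclic subspace.
-/

set_option autoImplicit false
set_option linter.unusedSectionVars false

namespace CfsgLib.OrthReversal

open Polynomial Module
open CfsgLib.SpComm (ND Inv cyc mem_cyc self_mem_cyc cyc_inv aeval_commute hh)

variable {F : Type*} [Field F] {V : Type*} [AddCommGroup V] [Module F V] [FiniteDimensional F V]
variable {B : LinearMap.BilinForm F V} {T : V ≃ₗ[F] V} {U : Submodule F V}

/-- Evaluation at a vector. -/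
noncomputable def evalAt (S : End F V) (x : V) : F[X] →ₗ[F] V := (LinearMap.applyₗ x).comp (aeval S).toLinearMap

theorem evalAt_apply (S : End F V) (x : V) (f : F[X]) : evalAt S x f = aeval S f x := rfl

/-- A map given on the image of `φ`. -/
theorem exists_map_of_ker {P : Type*} [AddCommGroup P] [Module F P] (φ ψ : P →ₗ[F] V)
    (h : ∀ p, φ p = 0 → ψ p = 0) : ∃ a : End F V, ∀ p, a (φ p) = ψ p := by
  let L : LinearMap.range φ →ₗ[F] V :=
    ((LinearMap.ker φ).liftQ ψ fun p hp => h p hp) ∘ₗ φ.quotKerEquivRange.symm.toLinearMap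
  obtain ⟨a, ha⟩ := LinearMap.exists_extend L
  refine ⟨a, fun p => ?_⟩
  have h1 := LinearMap.congr_fun ha ⟨φ p, LinearMap.mem_range_self φ p⟩
  simp only [LinearMap.coe_comp, Function.comp_apply, Submodule.coe_subtype] at h1
  rw [h1]
  simp only [L, LinearMap.coe_comp, Function.comp_apply, LinearEquiv.coe_coe]
  rw [LinearMap.quotKerEquivRange_symm_apply_image, Submodule.mkQ_apply]
  exact Submodule.liftQ_apply _ ψ p

theorem Iso.adj₂ (hI : Iso B T) (f g : F[X]) (u w : V) :
    B (aeval (T.symm : End F V) f u) (aeval (T.symm : End F V) g w) =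
      B (aeval (T : End F V) g u) (aeval (T : End F V) f w) := by
  rw [← hI.adj, ← Module.End.mul_apply]
  have hc : Commute (aeval (T : End F V) g) (aeval (T.symm : End F V) f) :=
    aeval_commute ((aeval_commute (LinearMap.ext fun z => by simp) g).symm) f
  rw [hc.eq, Module.End.mul_apply, hI.adj']

/-- The symmetrized polynomial. -/
theorem exists_sym (m : ℕ) (f : F[X]) (hf : f.natDegree ≤ m) :
    ∃ G : F[X], G.natDegree ≤ 2 * m ∧ (f ≠ 0 → G ≠ 0) ∧
      ∀ v, aeval (T : End F V) G v = ((T : End F V) ^ m) (aeval (hh T) f v) := by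
  induction m generalizing f with
  | zero =>
    refine ⟨f, by omega, fun h => h, fun v => ?_⟩
    rw [eq_C_of_natDegree_le_zero hf]
    simp
  | succ m ih =>
    obtain ⟨G, hG, hG0, hGv⟩ := ih f.divX (by rw [natDegree_divX_eq_natDegree_tsub_one]; omega)
    refine ⟨C (f.coeff 0) * X ^ (m + 1) + (X ^ 2 + 1) * G, ?_, fun h0 e => ?_, fun v => ?_⟩
    · refine (natDegree_add_le _ _).trans (max_le ?_ ?_)
      · exact natDegree_C_mul_X_pow_le _ _ |>.trans (by omega)
      · refine natDegree_mul_le.trans ?_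
        have : ((X : F[X]) ^ 2 + 1).natDegree ≤ 2 := by compute_degree
        omega
    · have hc : f.coeff 0 = 0 := by
        by_contra hc
        have h1 : (X ^ 2 + 1 : F[X]) ∣ C (f.coeff 0) * X ^ (m + 1) := ⟨-G, by linear_combination e⟩
        have h2 : IsCoprime ((X : F[X]) ^ 2 + 1) (X ^ (m + 1)) :=
          IsCoprime.pow_right (⟨1, -X, by ring⟩ : IsCoprime ((X : F[X]) ^ 2 + 1) X)
        have h3 := natDegree_le_of_dvd (h2.dvd_of_dvd_mul_right h1) (C_ne_zero.2 hc)
        rw [natDegree_C] at h3
        have : ((X : F[X]) ^ 2 + 1).natDegree = 2 := by compute_degree!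
        omega
      rw [hc, map_zero, zero_mul, zero_add, mul_eq_zero] at e
      refine e.elim (fun e => ?_) (hG0 fun e' => h0 ?_)
      · have : ((X : F[X]) ^ 2 + 1).natDegree = 2 := by compute_degree!
        rw [e, natDegree_zero] at this
        omega
      · rw [← X_mul_divX_add f, e', hc]; simp
    · have hT : aeval (T : End F V) ((X : F[X]) ^ 2 + 1) = (T : End F V) * hh T := by
        refine LinearMap.ext fun z => ?_
        simp [hh, sq]
      conv_rhs => rw [← X_mul_divX_add f]
      rw [map_add (aeval (T : End F V)), map_add (aeval (hh T)), LinearMap.add_apply, LinearMap.add_apply,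
        map_mul _ (C _), map_mul _ ((X : F[X]) ^ 2 + 1), Module.End.mul_apply, Module.End.mul_apply, hT, hGv, map_add,
        map_mul (aeval (hh T)) X, aeval_X, aeval_C, aeval_C, map_pow, aeval_X, Module.algebraMap_end_apply,
        Module.algebraMap_end_apply, map_smul, add_comm]
      congr 1
      rw [← Module.End.mul_apply ((T : End F V) * hh T), ← Module.End.mul_apply ((T : End F V) ^ (m + 1)),
        ← mul_assoc, mul_assoc _ (hh T), pow_succ' (T : End F V), mul_assoc (T : End F V)]
      have hc : Commute ((T : End F V) ^ m) (hh T) := by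
        refine Commute.pow_left (LinearMap.ext fun z => ?_) m
        simp [hh]
      rw [hc.eq, mul_assoc]
      simp only [Module.End.mul_apply]

/-- A polynomial of small degree killing a cyclic vector is zero. -/
theorem eq_zero_of_degree_lt {x : V} {g : F[X]} (hdeg : g.natDegree < finrank F (cyc T x))
    (hg : aeval (T : End F V) g x = 0) : g = 0 := by
  by_contra h0
  have hle : cyc T x ≤ LinearMap.range ((evalAt (T : End F V) x).comp (degreeLT F g.natDegree).subtype) := by
    intro v hv
    obtain ⟨f, rfl⟩ := mem_cyc.1 hv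
    refine ⟨⟨f % g, mem_degreeLT.2 ?_⟩, ?_⟩
    · rw [← degree_eq_natDegree h0]
      exact degree_mod_lt f h0
    · show aeval (T : End F V) (f % g) x = _
      conv_rhs => rw [← EuclideanDomain.div_add_mod f g]
      rw [map_add, mul_comm, map_mul, LinearMap.add_apply, Module.End.mul_apply, hg, map_zero, zero_add]
  have : Module.Finite F (degreeLT F g.natDegree) := Module.Finite.equiv (degreeLTEquiv F g.natDegree).symm
  have h1 := (Submodule.finrank_mono hle).trans (LinearMap.finrank_range_le _)
  rw [(degreeLTEquiv F g.natDegree).finrank_eq, Module.finrank_fin_fun] at h1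
  omega

/-- Lower bounds for the dimension of eigenspaces. -/
theorem le_finrank_of_sym {x : V} {e : F[X]} (he : e ≠ 0) (k m : ℕ) (S : Submodule F V)
    (hm : e.natDegree + 2 * m ≤ finrank F (cyc T x) + 1)
    (hS : ∀ f : F[X], ((T.symm : End F V) ^ k) (aeval (T : End F V) e (aeval (hh T) f x)) ∈ S) :
    m ≤ finrank F S := by
  rcases Nat.eq_zero_or_pos m with rfl | hm0
  · exact Nat.zero_le _
  let L : F[X] →ₗ[F] V := ((T.symm : End F V) ^ k * aeval (T : End F V) e).comp (evalAt (hh T) x)
  let L' : degreeLT F m →ₗ[F] S := LinearMap.codRestrict S (L.comp (degreeLT F m).subtype) fun f => hS f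
  have hL : Function.Injective L' := by
    refine (injective_iff_map_eq_zero L').2 fun f hf => ?_
    have h1 : ((T.symm : End F V) ^ k) (aeval (T : End F V) e (aeval (hh T) (f : F[X]) x)) = 0 :=
      congrArg Subtype.val hf
    have h2 := CfsgLib.SpComm.pow_apply_eq_zero (T := T.symm) h1
    have hdf : (f : F[X]).natDegree ≤ m - 1 := by
      by_cases h0 : (f : F[X]) = 0
      · rw [h0]; simp
      · have := mem_degreeLT.1 f.2
        rw [degree_eq_natDegree h0, Nat.cast_lt] at this
        omega
    obtain ⟨G, hG, hG0, hGv⟩ := exists_sym (T := T) (m - 1) (f : F[X]) hdf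
    by_contra hne
    have hne' : (f : F[X]) ≠ 0 := fun e => hne (Subtype.ext e)
    have h3 : aeval (T : End F V) (e * G) x = 0 := by
      rw [map_mul, Module.End.mul_apply, hGv, ← Module.End.mul_apply,
        (aeval_commute (Commute.refl (T : End F V)) e).pow_left (m - 1) |>.symm.eq, Module.End.mul_apply, h2, map_zero]
    refine mul_ne_zero he (hG0 hne') (eq_zero_of_degree_lt ?_ h3)
    rw [natDegree_mul he (hG0 hne')]
    omega
  have : Module.Finite F (degreeLT F m) := Module.Finite.equiv (degreeLTEquiv F m).symm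
  have h := LinearMap.finrank_le_finrank_of_injective hL
  rwa [(degreeLTEquiv F m).finrank_eq, Module.finrank_fin_fun] at h

/-- Cyclic non-degenerate subspaces are reversed. -/
theorem rv_cyc (h2 : (2 : F) ≠ 0) (hI : Iso B T) {x : V} (hnd : ND B (cyc T x)) : Rv B T (cyc T x) := by
  obtain ⟨a, ha⟩ := exists_map_of_ker (evalAt (T : End F V) x) (evalAt (T.symm : End F V) x) fun f hf => by
    refine hnd _ ((cyc_inv x).poly_symm_mem _ (self_mem_cyc x)) fun v hv => ?_
    obtain ⟨g, rfl⟩ := mem_cyc.1 hv
    rw [evalAt_apply] at hf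
    rw [evalAt_apply, hI.adj', ← Module.End.mul_apply, ← map_mul, mul_comm, map_mul, Module.End.mul_apply, hf,
      map_zero, map_zero]
  simp only [evalAt_apply] at ha
  have hax : a x = x := by simpa using ha 1
  have hU := cyc_inv (T := T) x
  have hrev : IsRev B T (cyc T x) a := by
    refine ⟨fun u hu => ?_, fun u hu => ?_, fun u hu v hv => ?_, fun u hu => ?_⟩
    · obtain ⟨f, rfl⟩ := mem_cyc.1 hu
      rw [ha]
      exact hU.poly_symm_mem _ (self_mem_cyc x)
    · obtain ⟨f, rfl⟩ := mem_cyc.1 hu
      rw [ha]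
      obtain ⟨g, hg⟩ := mem_cyc.1 (hU.poly_symm_mem f (self_mem_cyc x))
      rw [← hg, ha]
      refine sub_eq_zero.1 (hnd _ (Submodule.sub_mem _ (hU.poly_symm_mem _ (self_mem_cyc x))
        (hU.poly_mem _ (self_mem_cyc x))) fun v hv => ?_)
      obtain ⟨q, rfl⟩ := mem_cyc.1 hv
      rw [map_sub, LinearMap.sub_apply, sub_eq_zero]
      calc B (aeval (T.symm : End F V) g x) (aeval (T : End F V) q x)
          = B (aeval (T.symm : End F V) q x) (aeval (T : End F V) g x) := by
            rw [hI.adj', hI.adj', ← Module.End.mul_apply, ← map_mul, mul_comm, map_mul, Module.End.mul_apply]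
        _ = B (aeval (T : End F V) f x) (aeval (T : End F V) q x) := by rw [hg, hI.adj₂]
    · obtain ⟨f, rfl⟩ := mem_cyc.1 hu
      obtain ⟨g, rfl⟩ := mem_cyc.1 hv
      rw [ha, ha, hI.adj₂, hI.symm]
    · obtain ⟨f, rfl⟩ := mem_cyc.1 hu
      have e : T (aeval (T : End F V) f x) = aeval (T : End F V) (X * f) x := by
        rw [map_mul, aeval_X, Module.End.mul_apply]; rfl
      rw [e, ha, ha, map_mul, aeval_X, Module.End.mul_apply, LinearEquiv.coe_coe, T.apply_symm_apply]
  have hinv : ∀ f : F[X], aeval (hh T) f x ∈ cyc T x := fun f => hU.hh_poly_mem f (self_mem_cyc x)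
  have hah : ∀ u ∈ cyc T x, a (hh T u) = hh T (a u) := fun u hu => by
    have h1 : a (T.symm u) = T (a u) := by
      have := hrev.symm_eq (hU.symm_mem hu)
      rw [T.apply_symm_apply] at this
      rw [this, T.apply_symm_apply]
    simp only [hh, LinearMap.add_apply, LinearEquiv.coe_coe, map_add, hrev.symm_eq hu, h1]
    abel
  have hfix : ∀ f : F[X], a (aeval (hh T) f x) = aeval (hh T) f x := by
    intro f
    induction f using Polynomial.induction_on with
    | C c => simp [hax]
    | add p q hp hq => simp [hp, hq]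
    | monomial n c ih =>
      rw [pow_succ, ← mul_assoc, mul_comm _ X, map_mul, aeval_X, Module.End.mul_apply, hah _ (hinv _), ih]
  set N := finrank F (cyc T x) with hN
  set b := a * (T : End F V) with hb
  have hneg : ∀ u ∈ cyc T x, a u = u → a (T u - T.symm u) = -(T u - T.symm u) := fun u hu hau => by
    have h1 : a (T.symm u) = T u := by
      have := hrev.symm_eq (hU.symm_mem hu)
      rw [T.apply_symm_apply, hau] at this
      conv_rhs => rw [this, T.apply_symm_apply]
    rw [map_sub, hrev.symm_eq hu, hau, h1, neg_sub]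
  have hbu : ∀ u ∈ cyc T x, a u = u → b u = T.symm u ∧ b (T.symm u) = u := fun u hu hau => by
    refine ⟨by rw [hb]; exact (hrev.symm_eq hu).trans (by rw [hau]), ?_⟩
    show a (T (T.symm u)) = u
    rw [T.apply_symm_apply, hau]
  -- the four bounds
  have hmem1 : ∀ f : F[X], ((T.symm : End F V) ^ 0) (aeval (T : End F V) (1 : F[X]) (aeval (hh T) f x)) ∈
      fx a (cyc T x) := fun f => by
    rw [map_one, pow_zero, Module.End.one_apply, Module.End.one_apply, mem_fx]
    exact ⟨hinv f, hfix f⟩
  have hmem2 : ∀ f : F[X], ((T.symm : End F V) ^ 1) (aeval (T : End F V) (X ^ 2 - 1 : F[X]) (aeval (hh T) f x)) ∈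
      ng a (cyc T x) := fun f => by
    rw [mem_ng]
    have e : ((T.symm : End F V) ^ 1) (aeval (T : End F V) (X ^ 2 - 1 : F[X]) (aeval (hh T) f x)) =
        T (aeval (hh T) f x) - T.symm (aeval (hh T) f x) := by simp [sq]
    rw [e]
    exact ⟨Submodule.sub_mem _ (hU _ (hinv f)) (hU.symm_mem (hinv f)), hneg _ (hinv f) (hfix f)⟩
  have hmem3 : ∀ f : F[X], ((T.symm : End F V) ^ 1) (aeval (T : End F V) (X + 1 : F[X]) (aeval (hh T) f x)) ∈
      fx b (cyc T x) := fun f => by
    rw [mem_fx]
    have e : ((T.symm : End F V) ^ 1) (aeval (T : End F V) (X + 1 : F[X]) (aeval (hh T) f x)) =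
        aeval (hh T) f x + T.symm (aeval (hh T) f x) := by simp
    rw [e]
    refine ⟨Submodule.add_mem _ (hinv f) (hU.symm_mem (hinv f)), ?_⟩
    rw [map_add, (hbu _ (hinv f) (hfix f)).1, (hbu _ (hinv f) (hfix f)).2, add_comm]
  have hmem4 : ∀ f : F[X], ((T.symm : End F V) ^ 1) (aeval (T : End F V) (X - 1 : F[X]) (aeval (hh T) f x)) ∈
      ng b (cyc T x) := fun f => by
    rw [mem_ng]
    have e : ((T.symm : End F V) ^ 1) (aeval (T : End F V) (X - 1 : F[X]) (aeval (hh T) f x)) =
        aeval (hh T) f x - T.symm (aeval (hh T) f x) := by simp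
    rw [e]
    refine ⟨Submodule.sub_mem _ (hinv f) (hU.symm_mem (hinv f)), ?_⟩
    rw [map_sub, (hbu _ (hinv f) (hfix f)).1, (hbu _ (hinv f) (hfix f)).2, neg_sub]
  have d2 : ((X : F[X]) ^ 2 - 1).natDegree = 2 := by compute_degree!
  have d3 : ((X : F[X]) + 1).natDegree = 1 := by compute_degree!
  have d4 : ((X : F[X]) - 1).natDegree = 1 := by compute_degree!
  have b1 := le_finrank_of_sym (T := T) (x := x) one_ne_zero 0 ((N + 1) / 2) _ (by rw [natDegree_one]; omega) hmem1
  have b2 : (N - 1) / 2 ≤ finrank F (ng a (cyc T x)) := by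
    rcases Nat.eq_zero_or_pos ((N - 1) / 2) with h | h
    · rw [h]; exact Nat.zero_le _
    · exact le_finrank_of_sym (T := T) (x := x) (e := X ^ 2 - 1) (fun e => by simp [e] at d2) 1 ((N - 1) / 2) _
        (by rw [d2]; omega) hmem2
  have b3 := le_finrank_of_sym (T := T) (x := x) (e := X + 1) (fun e => by simp [e] at d3) 1 (N / 2) _
    (by rw [d3]; omega) hmem3
  have b4 := le_finrank_of_sym (T := T) (x := x) (e := X - 1) (fun e => by simp [e] at d4) 1 (N / 2) _
    (by rw [d4]; omega) hmem4
  have s1 := fx_sup_ng h2 hrev.maps hrev.sq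
  have s2 := fx_sup_ng h2 (hrev.mul hI hU).maps (hrev.mul hI hU).sq
  rw [← hb] at s2
  rcases Nat.even_or_odd N with ⟨l, hl⟩ | ⟨l, hl⟩
  · have h1 : dd b (cyc T x) = 0 := by rw [dd]; omega
    have h0 : dd a (cyc T x) = 0 ∨ dd a (cyc T x) = 2 := by rw [dd]; omega
    rcases h0 with h0 | h0
    · exact rv_zero hrev h0 h1
    · exact rv_both hI hU hrev h0 h1
  · have h0 : dd a (cyc T x) = 1 := by rw [dd]; omega
    have h1 : dd b (cyc T x) = 1 ∨ dd b (cyc T x) = -1 := by rw [dd]; omega
    rcases h1 with h1 | h1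
    · exact rv_of_sign hrev (i := 1) (j := 0) (Or.inl ⟨rfl, rfl⟩) (by omega) (by rw [← hb]; omega)
    · exact rv_of_sign hrev (i := 0) (j := 1) (Or.inr ⟨rfl, rfl⟩) (by omega) (by rw [← hb]; omega)

end CfsgLib.OrthReversal
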