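import Cfsg.Agent.Lib.OrthReversal.Isotropic

/-!
The vector needed for the commutator when the common fixed space of the two involutions' product is degenerate.
-/

set_option autoImplicit false
set_option linter.unusedSectionVars false

namespace CfsgLib.OrthReversal

open CfsgLib.Orth
open Matrix

variable {F : Type*} [Field F] [Finite F] {ι : Type} [Fintype ι] [DecidableEq ι]
variable {Q : QuadraticForm F (ι → F)} {n : ℕ} {c : F} {a b : Grp Q}

local notation "B" => QuadraticMap.polar (DFunLike.coe Q)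

theorem three_le_card (h2 : (2 : F) ≠ 0) : 3 ≤ Nat.card F := by
  cases nonempty_fintype F
  rw [Nat.card_eq_fintype_card]
  have := FiniteField.odd_card_of_char_ne_two (F := F) (fun e => h2 (by
    have := CharP.cast_eq_zero F (ringChar F); rwa [e, Nat.cast_ofNat] at this))
  have := Fintype.one_lt_card (α := F)
  omega

theorem exists_bad_class (S : OddSetting Q n c) : ∃ δ : F, δ ≠ 0 ∧ ¬ IsSquare (c * δ) := by
  cases nonempty_fintype F
  obtain ⟨x, hx⟩ := FiniteField.exists_nonsquare (F := F) fun h => S.two (by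
    have := CharP.cast_eq_zero F (ringChar F)
    rwa [h, Nat.cast_ofNat] at this)
  have hx0 : x ≠ 0 := fun e => hx (e ▸ IsSquare.zero)
  exact ⟨x / c, div_ne_zero hx0 S.c_ne, by rwa [mul_div_cancel₀ _ S.c_ne]⟩

theorem InvPair.fix_facts (P : InvPair Q n a b) {x : ι → F} (hx : x ∈ fixSpace (a * b)) :
    ap a x ∈ fixSpace (a * b) := by
  rw [mem_fix_mul_iff P.sqa] at hx ⊢
  rw [invol_apply P.sqa, hx, invol_apply P.sqb]

/-- The case of a degenerate fixed space. -/
theorem omComm_degenerate (S : OddSetting Q n c) (P : InvPair Q n a b)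
    (hsq : ∀ x ∈ fixSpace (a * b), IsSquare (c * Q x))
    (hrad : fixSpace (a * b) ⊓ orth Q (fixSpace (a * b)) ≠ ⊥) : OmComm Q (a * b) := by
  have hB := S.nondeg
  have h2 := S.two
  have hn := S.three
  set K := fixSpace (a * b) with hK
  set R := K ⊓ orth Q K with hR
  obtain ⟨δ, hδ0, hδ⟩ := exists_bad_class S
  have hKR : Module.finrank F K ≤ Module.finrank F R + 1 := by
    by_contra hlt
    obtain ⟨x, hx, e⟩ := univ_of_dim (Q := Q) (R := K) (by rw [← hR]; omega) δ hδ0
    exact hδ (e ▸ hsq x hx)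
  have hRn : Module.finrank F R ≤ n := by
    have hle : R ≤ orth Q R := fun x hx y hy => hx.2 y hy.1
    have h1 := Submodule.finrank_mono hle
    have h3 := finrank_orth hB R
    rw [S.dim] at h3
    omega
  have hsym := rq_comm (Q := Q) P.sqa P.sqb
  have hRinv : ∀ x ∈ R, ap a x ∈ R := fun x hx => ⟨P.fix_facts hx.1, fun y hy => by
    show B y (ap a x) = 0
    rw [← invol_b P.sqa]
    exact hx.2 _ (P.fix_facts hy)⟩
  -- an eigenvector in the radical orthogonal to an isotropic vector
  obtain ⟨v, hvR, hv0, ε, hε, hav, e, heK, hee, hev⟩ : ∃ v ∈ R, v ≠ 0 ∧ ∃ ε : F, (ε = 1 ∨ ε = -1) ∧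
      ap a v = ε • v ∧ ∃ e, e ∉ K ∧ rq a b e e = 0 ∧ B e v = 0 := by
    by_cases hbig : 2 ≤ Module.finrank F (R ⊓ fixSpace a : Submodule F (ι → F)) ∨
        2 ≤ Module.finrank F (R ⊓ negSpace a : Submodule F (ι → F))
    · obtain ⟨e, -, he, hee⟩ := exists_isotropic_not_mem h2 (rq a b) hsym ⊤ K (by rw [finrank_top, S.dim]; omega)
      have pick : ∀ X : Submodule F (ι → F), 2 ≤ Module.finrank F X → ∃ v ∈ X, v ≠ 0 ∧ B e v = 0 := fun X hX => by
        have hker : LinearMap.ker ((QuadraticMap.polarBilin Q e).comp X.subtype) ≠ ⊥ := fun h => by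
          have h1 := LinearMap.finrank_le_finrank_of_injective (LinearMap.ker_eq_bot.1 h)
          rw [Module.finrank_self] at h1
          omega
        obtain ⟨z, hz, hz0⟩ := (Submodule.ne_bot_iff _).1 hker
        exact ⟨z, z.2, fun e => hz0 (Subtype.ext e), hz⟩
      rcases hbig with hX | hX
      · obtain ⟨v, hv, hv0, hev⟩ := pick _ hX
        exact ⟨v, hv.1, hv0, 1, Or.inl rfl, by rw [one_smul]; exact hv.2, e, he, hee, hev⟩
      · obtain ⟨v, hv, hv0, hev⟩ := pick _ hX
        exact ⟨v, hv.1, hv0, -1, Or.inr rfl, by rw [neg_one_smul]; exact hv.2, e, he, hee, hev⟩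
    · push Not at hbig
      have hsum : R ≤ (R ⊓ fixSpace a) ⊔ (R ⊓ negSpace a) := fun x hx => by
        obtain ⟨p, hp, m, hm, rfl, e1, e2⟩ := invol_decomp h2 P.sqa x
        exact Submodule.add_mem_sup
          ⟨e1 ▸ R.smul_mem _ (R.add_mem hx (hRinv _ hx)), hp⟩ ⟨e2 ▸ R.smul_mem _ (R.sub_mem hx (hRinv _ hx)), hm⟩
      have hR2 := (Submodule.finrank_mono hsum).trans
        (Submodule.finrank_add_le_finrank_add_finrank _ _)
      obtain ⟨x, hx, hx0⟩ := (Submodule.ne_bot_iff _).1 hrad
      obtain ⟨v, hv, hv0, ε, hε, hav⟩ : ∃ v ∈ R, v ≠ 0 ∧ ∃ ε : F, (ε = 1 ∨ ε = -1) ∧ ap a v = ε • v := by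
        by_cases hp : x + ap a x = 0
        · exact ⟨x, hx, hx0, -1, Or.inr rfl, by
            rw [neg_one_smul]; exact (neg_eq_of_add_eq_zero_right hp).symm⟩
        · exact ⟨_, R.add_mem hx (hRinv _ hx), hp, 1, Or.inl rfl, by
            rw [one_smul, ap_add, invol_apply P.sqa, add_comm]⟩
      have hH : 2 * n ≤ Module.finrank F (orth Q (Submodule.span F {v})) := by
        have := finrank_orth hB (Submodule.span F {v})
        rw [finrank_span_singleton hv0, S.dim] at this
        omega
      obtain ⟨e, he, heK, hee⟩ := exists_isotropic_not_mem h2 (rq a b) hsym (orth Q (Submodule.span F {v})) K (by omega)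
      exact ⟨v, hv, hv0, ε, hε, hav, e, heK, hee, by
        rw [b_comm]; exact mem_orth.1 he v (Submodule.mem_span_singleton_self v)⟩
  have hbv : ap b v = ε • v := by rw [← (mem_fix_mul_iff P.sqa).1 hvR.1, hav]
  have hQv : Q v = 0 := by
    have h := hvR.2 v hvR.1
    rw [show (QuadraticMap.polarBilin Q v) v = B v v from rfl, b_self] at h
    exact (mul_eq_zero.1 h).resolve_left h2
  -- the eigenspaces for `ε`
  obtain ⟨A, A', hA, hA', hAn, hA'n⟩ : ∃ A A' : Submodule F (ι → F), (∀ x, x ∈ A ↔ ap a x = ε • x) ∧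
      (∀ x, x ∈ A' ↔ ap b x = ε • x) ∧ Module.finrank F A ≤ n + 1 ∧ Module.finrank F A' ≤ n + 1 := by
    obtain ⟨n1, n2⟩ := P.negdim S
    rcases hε with rfl | rfl
    · exact ⟨fixSpace a, fixSpace b, fun x => by rw [one_smul]; rfl, fun x => by rw [one_smul]; rfl,
        P.dima.le, P.dimb.le⟩
    · exact ⟨negSpace a, negSpace b, fun x => by rw [neg_one_smul]; rfl, fun x => by rw [neg_one_smul]; rfl,
        by omega, by omega⟩
  obtain ⟨x, hx1, hx2, hx3, hx4⟩ := exists_not_mem_four (F := F)
    (LinearMap.ker (QuadraticMap.polarBilin Q v)) (LinearMap.ker (rq a b e))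
    (A ⊔ Submodule.span F {e}) (A' ⊔ Submodule.span F {e}) (by
      have hne : QuadraticMap.polarBilin Q v ≠ 0 := fun h => hv0 (hB v fun y => by
        rw [← QuadraticMap.polarBilin_apply_apply, h, LinearMap.zero_apply])
      have h1 := Module.Dual.finrank_ker_add_one_of_ne_zero hne
      omega) (by
      have hne : rq a b e ≠ 0 := fun h => heK ((mem_fix_mul_iff P.sqa).2 (sub_eq_zero.1 (hB _ fun y => by
        rw [b_sub_left, ← rq_apply, h, LinearMap.zero_apply])))
      have h1 := Module.Dual.finrank_ker_add_one_of_ne_zero hne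
      omega) (by
      have := Submodule.finrank_add_le_finrank_add_finrank A (Submodule.span F {e})
      have h1 : Module.finrank F (Submodule.span F {e}) ≤ 1 :=
        (finrank_span_le_card ({e} : Set (ι → F))).trans (by simp)
      rw [S.dim]; omega) (by
      have := Submodule.finrank_add_le_finrank_add_finrank A' (Submodule.span F {e})
      have h1 : Module.finrank F (Submodule.span F {e}) ≤ 1 :=
        (finrank_span_le_card ({e} : Set (ι → F))).trans (by simp)
      rw [S.dim]; omega) (three_le_card h2)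
  rw [LinearMap.mem_ker] at hx1 hx2
  set l := rq a b e x with hl
  set k := rq a b x x / (2 * l) with hk
  set u := x + (-k) • e with hu
  have hRu : rq a b u u = 0 := by
    rw [hu, rq_self_shift P.sqa P.sqb, hee, hsym x e, ← hl, hk]
    field_simp
    ring
  have huv : B u v ≠ 0 := by
    rw [hu, b_add_left, b_smul_left, hev, mul_zero, add_zero, b_comm]
    exact hx1
  have hmem : ∀ A : Submodule F (ι → F), x ∉ A ⊔ Submodule.span F {e} → u ∉ A := fun A hA h => hA (by
    rw [show x = u + k • e by rw [hu, neg_smul, neg_add_cancel_right]]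
    exact Submodule.add_mem_sup h (Submodule.smul_mem _ _ (Submodule.mem_span_singleton_self e)))
  have huA : ap a u ≠ ε • u := fun h => hmem A hx3 ((hA u).2 h)
  have huA' : ap b u ≠ ε • u := fun h => hmem A' hx4 ((hA' u).2 h)
  set t := (δ - Q u) / B u v with ht
  set w := u + t • v with hw
  have hQw : Q w = δ := by
    rw [hw, q_add, q_smul, hQv, b_smul_right, ht, mul_zero, add_zero, div_mul_cancel₀ _ huv, add_sub_cancel]
  have hBv : B w v = B u v := by
    rw [hw, b_add_left, b_smul_left, b_self_zero hQv, mul_zero, add_zero]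
  have key : ∀ g : Grp Q, g * g = 1 → ap g v = ε • v → ap g u ≠ ε • u → ap g w ≠ w ∧ ap g w ≠ -w := by
    intro g hg hgv hgu
    have hne : ap g w ≠ ε • w := fun h => hgu (by
      rw [hw, ap_add, ap_smul, hgv, smul_add, smul_comm ε t] at h
      exact add_right_cancel h)
    have hne' : ap g w ≠ -(ε • w) := fun h => by
      have h1 : B (ap g w) v = ε * B w v := by rw [invol_b hg, hgv, b_smul_right]
      rw [h, ← neg_smul, b_smul_left] at h1
      have he0 : ε ≠ 0 := by rcases hε with rfl | rfl <;> simp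
      exact huv (hBv ▸ (mul_eq_zero.1 (by linear_combination -h1 : (2 * ε) * B w v = 0)).resolve_left
        (mul_ne_zero h2 he0))
    rcases hε with rfl | rfl
    · rw [one_smul] at hne hne'
      exact ⟨hne, hne'⟩
    · rw [neg_one_smul, neg_neg] at hne'
      rw [neg_one_smul] at hne
      exact ⟨hne', hne⟩
  obtain ⟨a1, a2⟩ := key a P.sqa hav huA
  obtain ⟨b1, b2⟩ := key b P.sqb hbv huA'
  refine omComm_of_vector S P (w := w) (by rwa [hQw]) ?_ (iff_of_false a1 b1) (iff_of_false a2 b2)
  have h0 : rq a b w w = 0 := by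
    have hvK : ∀ y, rq a b v y = 0 := fun y => by
      rw [rq_apply, (mem_fix_mul_iff P.sqa).1 hvR.1, sub_self]
    rw [hw, rq_self_shift P.sqa P.sqb, hRu, hsym u v, hvK, hvK, mul_zero, mul_zero, add_zero, add_zero]
  rw [rq_apply, sub_eq_zero] at h0
  exact h0

end CfsgLib.OrthReversal
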