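import Cfsg.Agent.Lib.OrthReversal.Basic

/-!
Involutions reversing an isometry on an invariant subspace and the difference of the dimensions of their
eigenspaces.
-/

set_option autoImplicit false
set_option linter.unusedSectionVars false

namespace CfsgLib.OrthReversal

open Polynomial Module
open CfsgLib.SpComm (ND Inv cyc mem_cyc self_mem_cyc cyc_inv)

variable {F : Type*} [Field F] {V : Type*} [AddCommGroup V] [Module F V] [FiniteDimensional F V]
variable {B : LinearMap.BilinForm F V} {T : V ≃ₗ[F] V} {U W W' : Submodule F V}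

/-- Fixed vectors in a subspace. -/
def fx (a : End F V) (U : Submodule F V) : Submodule F V := U ⊓ LinearMap.ker (a - 1)

/-- Negated vectors in a subspace. -/
def ng (a : End F V) (U : Submodule F V) : Submodule F V := U ⊓ LinearMap.ker (a + 1)

theorem mem_fx {a : End F V} {u : V} : u ∈ fx a U ↔ u ∈ U ∧ a u = u := by
  simp [fx, sub_eq_zero]

theorem mem_ng {a : End F V} {u : V} : u ∈ ng a U ↔ u ∈ U ∧ a u = -u := by
  simp [ng, eq_neg_iff_add_eq_zero]

/-- The difference of the dimensions of the two eigenspaces. -/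
noncomputable def dd (a : End F V) (U : Submodule F V) : ℤ :=
  (finrank F (fx a U) : ℤ) - (finrank F (ng a U) : ℤ)

theorem dd_congr {a a' : End F V} (h : ∀ u ∈ U, a u = a' u) : dd a U = dd a' U := by
  have h1 : fx a U = fx a' U := by
    ext u
    rw [mem_fx, mem_fx]
    exact and_congr_right fun hu => by rw [h u hu]
  have h2 : ng a U = ng a' U := by
    ext u
    rw [mem_ng, mem_ng]
    exact and_congr_right fun hu => by rw [h u hu]
  rw [dd, dd, h1, h2]

theorem dd_neg (a : End F V) : dd (-a) U = - dd a U := by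
  have h1 : fx (-a) U = ng a U := by
    ext u
    rw [mem_fx, mem_ng, LinearMap.neg_apply, neg_eq_iff_eq_neg]
  have h2 : ng (-a) U = fx a U := by
    ext u
    rw [mem_fx, mem_ng, LinearMap.neg_apply, neg_inj]
  rw [dd, dd, h1, h2, neg_sub]

theorem fx_sup_ng (h2 : (2 : F) ≠ 0) {a : End F V} (ha : ∀ u ∈ U, a u ∈ U) (ha' : ∀ u ∈ U, a (a u) = u) :
    finrank F (fx a U) + finrank F (ng a U) = finrank F U := by
  have hd : fx a U ⊓ ng a U = ⊥ := by
    refine (Submodule.eq_bot_iff _).2 fun u hu => ?_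
    have h : u + u = 0 := by
      conv_lhs => arg 1; rw [← (mem_fx.1 hu.1).2]
      rw [(mem_ng.1 hu.2).2, neg_add_cancel]
    rw [← two_smul F u, smul_eq_zero] at h
    exact h.resolve_left h2
  have hs : fx a U ⊔ ng a U = U := by
    refine le_antisymm (sup_le inf_le_left inf_le_left) fun u hu => ?_
    refine Submodule.mem_sup.2 ⟨(2 : F)⁻¹ • (u + a u), mem_fx.2 ⟨U.smul_mem _ (U.add_mem hu (ha u hu)), ?_⟩,
      (2 : F)⁻¹ • (u - a u), mem_ng.2 ⟨U.smul_mem _ (U.sub_mem hu (ha u hu)), ?_⟩, ?_⟩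
    · rw [map_smul, map_add, ha' u hu, add_comm]
    · rw [map_smul, map_sub, ha' u hu, ← smul_neg, neg_sub]
    · rw [← smul_add, show u + a u + (u - a u) = (2 : F) • u by rw [two_smul]; abel, smul_smul,
        inv_mul_cancel₀ h2, one_smul]
  have := Submodule.finrank_sup_add_finrank_inf_eq (fx a U) (ng a U)
  rw [hd, hs, finrank_bot] at this
  omega

/-- `a` is an isometric involution of `U` inverting `T`. -/
structure IsRev (B : LinearMap.BilinForm F V) (T : V ≃ₗ[F] V) (U : Submodule F V) (a : End F V) : Prop where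
  maps : ∀ u ∈ U, a u ∈ U
  sq : ∀ u ∈ U, a (a u) = u
  iso : ∀ u ∈ U, ∀ v ∈ U, B (a u) (a v) = B u v
  rev : ∀ u ∈ U, T (a (T u)) = a u

theorem IsRev.neg {a : End F V} (h : IsRev B T U a) : IsRev B T U (-a) where
  maps u hu := by rw [LinearMap.neg_apply]; exact U.neg_mem (h.maps u hu)
  sq u hu := by simp [h.sq u hu]
  iso u hu v hv := by simp [h.iso u hu v hv]
  rev u hu := by simp [h.rev u hu]

theorem IsRev.symm_eq {a : End F V} (h : IsRev B T U a) {u : V} (hu : u ∈ U) :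
    a (T u) = T.symm (a u) := by rw [← h.rev u hu, T.symm_apply_apply]

theorem IsRev.mul (hI : Iso B T) (hU : Inv T U) {a : End F V} (h : IsRev B T U a) :
    IsRev B T U (a * (T : End F V)) where
  maps u hu := h.maps _ (hU u hu)
  sq u hu := by
    show a (T (a (T u))) = u
    rw [h.rev u hu, h.sq u hu]
  iso u hu v hv := by
    show B (a (T u)) (a (T v)) = B u v
    rw [h.iso _ (hU u hu) _ (hU v hv), hI.iso]
  rev u hu := by
    show T (a (T (T u))) = a (T u)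
    exact h.rev _ (hU u hu)

theorem IsRev.dd_mul_mul (hU : Inv T U) {a : End F V} (h : IsRev B T U a) :
    dd (a * (T : End F V) * (T : End F V)) U = dd a U := by
  have key : ∀ u ∈ U, (a * (T : End F V) * (T : End F V)) (T.symm u) = T.symm (a u) := fun u hu => by
    show a (T (T (T.symm u))) = _
    rw [T.apply_symm_apply, h.symm_eq hu]
  have h1 : fx (a * (T : End F V) * (T : End F V)) U = (fx a U).map (T.symm : V →ₗ[F] V) := by
    ext w
    rw [mem_fx]
    constructor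
    · rintro ⟨hw, e⟩
      refine ⟨T w, mem_fx.2 ⟨hU w hw, ?_⟩, T.symm_apply_apply w⟩
      have := key _ (hU w hw)
      rw [T.symm_apply_apply, e] at this
      exact ((T.eq_symm_apply).1 this).symm
    · rintro ⟨u, hu, rfl⟩
      obtain ⟨hu', e⟩ := mem_fx.1 hu
      exact ⟨hU.symm_mem hu', (key u hu').trans (by rw [e]; rfl)⟩
  have h2 : ng (a * (T : End F V) * (T : End F V)) U = (ng a U).map (T.symm : V →ₗ[F] V) := by
    ext w
    rw [mem_ng]
    constructor
    · rintro ⟨hw, e⟩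
      refine ⟨T w, mem_ng.2 ⟨hU w hw, ?_⟩, T.symm_apply_apply w⟩
      have := key _ (hU w hw)
      rw [T.symm_apply_apply, e] at this
      have h3 := (T.eq_symm_apply).1 this
      rw [map_neg] at h3
      exact h3.symm
    · rintro ⟨u, hu, rfl⟩
      obtain ⟨hu', e⟩ := mem_ng.1 hu
      exact ⟨hU.symm_mem hu', (key u hu').trans (by rw [e, map_neg]; rfl)⟩
  rw [dd, dd, h1, h2, LinearEquiv.finrank_map_eq, LinearEquiv.finrank_map_eq]

/-- Reversing involutions with all the sign choices of the eigenvalue excess. -/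
def Rv (B : LinearMap.BilinForm F V) (T : V ≃ₗ[F] V) (U : Submodule F V) : Prop :=
  ∃ i j : ℤ, (i = 0 ∨ i = 1) ∧ (j = 0 ∨ j = 1) ∧ ∀ s t : ℤ, (s = 1 ∨ s = -1) → (t = 1 ∨ t = -1) →
    ∃ a : End F V, IsRev B T U a ∧ dd a U = s * i + t * j ∧ dd (a * (T : End F V)) U = s * i - t * j

theorem rv_zero {a : End F V} (h : IsRev B T U a) (h0 : dd a U = 0) (h1 : dd (a * (T : End F V)) U = 0) :
    Rv B T U :=
  ⟨0, 0, Or.inl rfl, Or.inl rfl, fun s t _ _ => ⟨a, h, by simp [h0], by simp [h1]⟩⟩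

theorem rv_of_sign {a : End F V} (h : IsRev B T U a) {i j : ℤ} (hij : (i = 1 ∧ j = 0) ∨ (i = 0 ∧ j = 1))
    (h0 : dd a U = i + j) (h1 : dd (a * (T : End F V)) U = i - j) : Rv B T U := by
  refine ⟨i, j, by omega, by omega, fun s t hs ht => ?_⟩
  have hneg : dd (-a) U = -(i + j) ∧ dd (-a * (T : End F V)) U = -(i - j) := by
    rw [neg_mul, dd_neg, dd_neg, h0, h1]; exact ⟨rfl, rfl⟩
  rcases hij with ⟨rfl, rfl⟩ | ⟨rfl, rfl⟩
  · rcases hs with rfl | rfl
    · exact ⟨a, h, by simp [h0], by simp [h1]⟩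
    · exact ⟨-a, h.neg, by rw [hneg.1]; ring, by rw [hneg.2]; ring⟩
  · rcases ht with rfl | rfl
    · exact ⟨a, h, by simp [h0], by simp [h1]⟩
    · exact ⟨-a, h.neg, by rw [hneg.1]; ring, by rw [hneg.2]; ring⟩

theorem rv_both (hI : Iso B T) (hU : Inv T U) {a : End F V} (h : IsRev B T U a)
    (h0 : dd a U = 2) (h1 : dd (a * (T : End F V)) U = 0) : Rv B T U := by
  refine ⟨1, 1, Or.inr rfl, Or.inr rfl, fun s t hs ht => ?_⟩
  have h' := h.mul hI hU
  have h2 : dd (a * (T : End F V) * (T : End F V)) U = 2 := (h.dd_mul_mul hU).trans h0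
  rcases hs with rfl | rfl <;> rcases ht with rfl | rfl
  · exact ⟨a, h, by rw [h0]; ring, by rw [h1]; ring⟩
  · exact ⟨_, h', by rw [h1]; ring, by rw [h2]; ring⟩
  · exact ⟨_, h'.neg, by rw [dd_neg, h1]; ring, by rw [neg_mul, dd_neg, h2]; ring⟩
  · exact ⟨-a, h.neg, by rw [dd_neg, h0]; ring, by rw [neg_mul, dd_neg, h1]; ring⟩

/-- An involution exchanging two complementary subspaces has equal eigenspaces. -/
theorem dd_swap (h2 : (2 : F) ≠ 0) {a : End F V} (hWU : W ≤ U) (hW'U : W' ≤ U) (hsup : U ≤ W ⊔ W')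
    (hdisj : ∀ u ∈ W, u ∈ W' → u = 0) (ha : ∀ u ∈ U, a (a u) = u)
    (h1 : ∀ u ∈ W, a u ∈ W') (h1' : ∀ u ∈ W', a u ∈ W) : dd a U = 0 := by
  have hmap : ∀ u ∈ U, a u ∈ U := fun u hu => by
    obtain ⟨p, hp, q, hq, rfl⟩ := Submodule.mem_sup.1 (hsup hu)
    rw [map_add]
    exact U.add_mem (hW'U (h1 p hp)) (hWU (h1' q hq))
  have hle : ∀ ε : F, ε = 1 ∨ ε = -1 → finrank F W ≤ finrank F (U ⊓ LinearMap.ker (a - ε • 1) : Submodule F V) := by
    intro ε hε
    have e : ε * ε = 1 := by rcases hε with rfl | rfl <;> ring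
    let f : W →ₗ[F] (U ⊓ LinearMap.ker (a - ε • 1) : Submodule F V) :=
      LinearMap.codRestrict _ ((1 + ε • a : End F V) ∘ₗ W.subtype) fun u => by
        refine ⟨U.add_mem (hWU u.2) (U.smul_mem _ (hmap _ (hWU u.2))), ?_⟩
        simp only [SetLike.mem_coe, LinearMap.mem_ker, LinearMap.sub_apply, LinearMap.smul_apply,
          Module.End.one_apply, LinearMap.coe_comp, Function.comp_apply, Submodule.coe_subtype,
          LinearMap.add_apply, map_add, map_smul, ha _ (hWU u.2)]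
        rcases hε with rfl | rfl <;> simp only [one_smul, neg_smul, neg_add, neg_neg] <;> abel
    refine LinearMap.finrank_le_finrank_of_injective (f := f) ((injective_iff_map_eq_zero f).2 fun u hu => ?_)
    have : (u : V) + ε • a u = 0 := congrArg Subtype.val hu
    refine Subtype.ext (hdisj _ u.2 ?_)
    rw [eq_neg_of_add_eq_zero_left this]
    exact W'.neg_mem (W'.smul_mem _ (h1 _ u.2))
  have hfx : finrank F W ≤ finrank F (fx a U) := by
    have := hle 1 (Or.inl rfl)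
    rwa [one_smul] at this
  have hng : finrank F W ≤ finrank F (ng a U) := by
    have := hle (-1) (Or.inr rfl)
    rwa [neg_smul, one_smul, sub_neg_eq_add] at this
  have hsum := fx_sup_ng h2 hmap ha
  have hUle := Submodule.finrank_mono hsup
  have h3 := Submodule.finrank_add_le_finrank_add_finrank W W'
  have hW' : finrank F W' ≤ finrank F W := by
    let f : W' →ₗ[F] W := LinearMap.codRestrict _ (a ∘ₗ W'.subtype) fun u => h1' _ u.2
    refine LinearMap.finrank_le_finrank_of_injective (f := f) fun u v huv => Subtype.ext ?_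
    have : a u = a v := congrArg Subtype.val huv
    rw [← ha _ (hW'U u.2), this, ha _ (hW'U v.2)]
  rw [dd]
  omega

/-- Two reversed orthogonal summands. -/
theorem Rv.sum (hI : Iso B T) (hWU : W ≤ U) (hW'U : W' ≤ U) (hW : Inv T W) (hW' : Inv T W')
    (hWnd : ND B W) (hort : ∀ a ∈ W, ∀ b ∈ W', B a b = 0) (hsup : U ≤ W ⊔ W') (h₁ : Rv B T W) (h₂ : Rv B T W') :
    Rv B T U := by
  have hdis : ∀ u ∈ W, u ∈ W' → u = 0 := fun u hu hu' => hWnd u hu fun v hv => hI.swap (hort v hv u hu')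
  have hdj : Disjoint W W' := Submodule.disjoint_def.2 hdis
  obtain ⟨C, hCW, hcompl⟩ : ∃ C : Submodule F V, W' ≤ C ∧ IsCompl W C := by
    obtain ⟨C', hC'⟩ := exists_isCompl (W ⊔ W')
    refine ⟨W' ⊔ C', le_sup_left, ⟨?_, ?_⟩⟩
    · exact Disjoint.disjoint_sup_right_of_disjoint_sup_left hdj hC'.disjoint
    · rw [codisjoint_iff, ← sup_assoc]; exact hC'.sup_eq_top
  obtain ⟨i₁, j₁, hi₁, hj₁, H₁⟩ := h₁
  obtain ⟨i₂, j₂, hi₂, hj₂, H₂⟩ := h₂
  refine ⟨(i₁ + i₂) % 2, (j₁ + j₂) % 2, by omega, by omega, fun s t hs ht => ?_⟩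
  let s₂ : ℤ := if i₁ = 1 ∧ i₂ = 1 then -s else s
  let t₂ : ℤ := if j₁ = 1 ∧ j₂ = 1 then -t else t
  have hs2 : s₂ = 1 ∨ s₂ = -1 := by simp only [s₂]; split <;> omega
  have ht2 : t₂ = 1 ∨ t₂ = -1 := by simp only [t₂]; split <;> omega
  have es : s * ((i₁ + i₂) % 2) = s * i₁ + s₂ * i₂ := by
    rcases hi₁ with rfl | rfl <;> rcases hi₂ with rfl | rfl <;> simp [s₂]
  have et : t * ((j₁ + j₂) % 2) = t * j₁ + t₂ * j₂ := by
    rcases hj₁ with rfl | rfl <;> rcases hj₂ with rfl | rfl <;> simp [t₂]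
  obtain ⟨a₁, r₁, d₁, e₁⟩ := H₁ s t hs ht
  obtain ⟨a₂, r₂, d₂, e₂⟩ := H₂ s₂ t₂ hs2 ht2
  let a : End F V := LinearMap.ofIsCompl hcompl (a₁ ∘ₗ W.subtype) (a₂ ∘ₗ C.subtype)
  have aW : ∀ u ∈ W, a u = a₁ u := fun u hu => LinearMap.ofIsCompl_apply_left hcompl ⟨u, hu⟩
  have aW' : ∀ u ∈ W', a u = a₂ u := fun u hu => LinearMap.ofIsCompl_apply_right hcompl ⟨u, hCW hu⟩
  have hdec : ∀ u ∈ U, ∃ p ∈ W, ∃ q ∈ W', u = p + q := fun u hu => by
    obtain ⟨p, hp, q, hq, e⟩ := Submodule.mem_sup.1 (hsup hu)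
    exact ⟨p, hp, q, hq, e.symm⟩
  have huniq : ∀ p ∈ W, ∀ q ∈ W', ∀ p' ∈ W, ∀ q' ∈ W', p + q = p' + q' → p = p' ∧ q = q' := by
    intro p hp q hq p' hp' q' hq' e
    have h1 : p - p' = q' - q := by linear_combination (norm := abel) e
    have h0 := hdis _ (W.sub_mem hp hp') (h1 ▸ W'.sub_mem hq' hq)
    exact ⟨sub_eq_zero.1 h0, (sub_eq_zero.1 (h1.symm.trans h0)).symm⟩
  have dd_sum : ∀ b b₁ b₂ : End F V, (∀ u ∈ W, b u = b₁ u) → (∀ u ∈ W', b u = b₂ u) →
      (∀ u ∈ W, b₁ u ∈ W) → (∀ u ∈ W', b₂ u ∈ W') → dd b U = dd b₁ W + dd b₂ W' := by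
    intro b b₁ b₂ hb hb' m m'
    have f1 : fx b U = fx b₁ W ⊔ fx b₂ W' := by
      refine le_antisymm (fun u hu => ?_) (sup_le (fun u hu => ?_) fun u hu => ?_)
      · obtain ⟨hu, e⟩ := mem_fx.1 hu
        obtain ⟨p, hp, q, hq, rfl⟩ := hdec u hu
        rw [map_add, hb p hp, hb' q hq] at e
        obtain ⟨ep, eq⟩ := huniq _ (m p hp) _ (m' q hq) p hp q hq e
        exact Submodule.add_mem_sup (mem_fx.2 ⟨hp, ep⟩) (mem_fx.2 ⟨hq, eq⟩)
      · obtain ⟨hu, e⟩ := mem_fx.1 hu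
        exact mem_fx.2 ⟨hWU hu, by rw [hb u hu, e]⟩
      · obtain ⟨hu, e⟩ := mem_fx.1 hu
        exact mem_fx.2 ⟨hW'U hu, by rw [hb' u hu, e]⟩
    have f2 : ng b U = ng b₁ W ⊔ ng b₂ W' := by
      refine le_antisymm (fun u hu => ?_) (sup_le (fun u hu => ?_) fun u hu => ?_)
      · obtain ⟨hu, e⟩ := mem_ng.1 hu
        obtain ⟨p, hp, q, hq, rfl⟩ := hdec u hu
        rw [map_add, hb p hp, hb' q hq, neg_add] at e
        obtain ⟨ep, eq⟩ := huniq _ (m p hp) _ (m' q hq) _ (W.neg_mem hp) _ (W'.neg_mem hq) e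
        exact Submodule.add_mem_sup (mem_ng.2 ⟨hp, ep⟩) (mem_ng.2 ⟨hq, eq⟩)
      · obtain ⟨hu, e⟩ := mem_ng.1 hu
        exact mem_ng.2 ⟨hWU hu, by rw [hb u hu, e]⟩
      · obtain ⟨hu, e⟩ := mem_ng.1 hu
        exact mem_ng.2 ⟨hW'U hu, by rw [hb' u hu, e]⟩
    have k1 := Submodule.finrank_sup_add_finrank_inf_eq (fx b₁ W) (fx b₂ W')
    have k2 := Submodule.finrank_sup_add_finrank_inf_eq (ng b₁ W) (ng b₂ W')
    rw [(hdj.mono inf_le_left inf_le_left : Disjoint (fx b₁ W) (fx b₂ W')).eq_bot, finrank_bot, ← f1] at k1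
    rw [(hdj.mono inf_le_left inf_le_left : Disjoint (ng b₁ W) (ng b₂ W')).eq_bot, finrank_bot, ← f2] at k2
    rw [dd, dd, dd]
    omega
  refine ⟨a, ⟨fun u hu => ?_, fun u hu => ?_, fun u hu v hv => ?_, fun u hu => ?_⟩, ?_, ?_⟩
  · obtain ⟨p, hp, q, hq, rfl⟩ := hdec u hu
    rw [map_add, aW p hp, aW' q hq]
    exact U.add_mem (hWU (r₁.maps p hp)) (hW'U (r₂.maps q hq))
  · obtain ⟨p, hp, q, hq, rfl⟩ := hdec u hu
    rw [map_add, aW p hp, aW' q hq, map_add, aW _ (r₁.maps p hp), aW' _ (r₂.maps q hq), r₁.sq p hp, r₂.sq q hq]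
  · obtain ⟨p, hp, q, hq, rfl⟩ := hdec u hu
    obtain ⟨p', hp', q', hq', rfl⟩ := hdec v hv
    simp only [map_add, LinearMap.add_apply, aW p hp, aW' q hq, aW p' hp', aW' q' hq', r₁.iso p hp p' hp',
      r₂.iso q hq q' hq', hort _ (r₁.maps p hp) _ (r₂.maps q' hq'), hI.swap (hort _ (r₁.maps p' hp') _ (r₂.maps q hq)),
      hort p hp q' hq', hI.swap (hort p' hp' q hq)]
  · obtain ⟨p, hp, q, hq, rfl⟩ := hdec u hu
    rw [map_add T, map_add a, aW _ (hW p hp), aW' _ (hW' q hq), map_add T, r₁.rev p hp, r₂.rev q hq, map_add,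
      aW p hp, aW' q hq]
  · rw [dd_sum a a₁ a₂ aW aW' r₁.maps r₂.maps, d₁, d₂, es, et]; ring
  · rw [dd_sum (a * (T : End F V)) (a₁ * (T : End F V)) (a₂ * (T : End F V)) (fun u hu => aW _ (hW u hu))
      (fun u hu => aW' _ (hW' u hu)) (fun u hu => r₁.maps _ (hW u hu)) (fun u hu => r₂.maps _ (hW' u hu)),
      e₁, e₂, es, et]
    ring

end CfsgLib.OrthReversal
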