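import Cfsg.Agent.Lib.OrthReversal.Main
import Cfsg.Agent.Lib.Classical.OrthFix
import Cfsg.Agent.Lib.Classical.OmegaTests

/-!
Involutions of orthogonal groups in odd characteristic: eigenspaces, moving inside them, and conjugacy.
-/

set_option autoImplicit false
set_option linter.unusedSectionVars false

namespace CfsgLib.OrthReversal

open CfsgLib.Orth
open Matrix

variable {F : Type*} [Field F] [Finite F] {ι : Type} [Fintype ι] [DecidableEq ι]
variable {Q : QuadraticForm F (ι → F)}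

local notation "B" => QuadraticMap.polar (DFunLike.coe Q)

/-- The negated vectors. -/
def negSpace (g : Grp Q) : Submodule F (ι → F) where
  carrier := {x | ap g x = -x}
  add_mem' := fun {a b} (ha : ap g a = -a) (hb : ap g b = -b) => by
    show ap g (a + b) = -(a + b); rw [ap_add, ha, hb, neg_add]
  zero_mem' := by show ap g 0 = -0; rw [ap_zero, neg_zero]
  smul_mem' := fun c x (hx : ap g x = -x) => by show ap g (c • x) = -(c • x); rw [ap_smul, hx, smul_neg]

theorem mem_negSpace {g : Grp Q} {x : ι → F} : x ∈ negSpace g ↔ ap g x = -x := Iff.rfl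

theorem two_smul_eq_zero (h2 : (2 : F) ≠ 0) {x : ι → F} (h : x + x = 0) : x = 0 := by
  rw [← two_smul F x, smul_eq_zero] at h
  exact h.resolve_left h2

theorem ap_neg (g : Grp Q) (x : ι → F) : ap g (-x) = -ap g x := by
  rw [← neg_one_smul F x, ap_smul, neg_one_smul]

variable {a b : Grp Q}

theorem invol_apply (ha : a * a = 1) (x : ι → F) : ap a (ap a x) = x := by rw [← ap_mul, ha, ap_one]

theorem invol_b (ha : a * a = 1) (x y : ι → F) : B (ap a x) y = B x (ap a y) := by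
  rw [← ap_b a x (ap a y), invol_apply ha]

theorem b_fix_neg (h2 : (2 : F) ≠ 0) {x y : ι → F} (hx : x ∈ fixSpace a) (hy : y ∈ negSpace a) :
    B x y = 0 := by
  have h := ap_b a x y
  rw [mem_fixSpace.1 hx, mem_negSpace.1 hy, ← neg_one_smul F y, b_smul_right] at h
  exact (mul_eq_zero.1 (by linear_combination -h : (2 : F) * B x y = 0)).resolve_left h2

theorem eq_zero_of_fix_neg (h2 : (2 : F) ≠ 0) {x : ι → F} (hx : x ∈ fixSpace a) (hy : x ∈ negSpace a) :
    x = 0 := by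
  refine two_smul_eq_zero h2 ?_
  conv_lhs => arg 1; rw [← mem_fixSpace.1 hx]
  rw [mem_negSpace.1 hy, neg_add_cancel]

theorem invol_decomp (h2 : (2 : F) ≠ 0) (ha : a * a = 1) (x : ι → F) :
    ∃ p ∈ fixSpace a, ∃ m ∈ negSpace a, x = p + m ∧ p = (2 : F)⁻¹ • (x + ap a x) ∧
      m = (2 : F)⁻¹ • (x - ap a x) := by
  refine ⟨_, ?_, _, ?_, ?_, rfl, rfl⟩
  · rw [mem_fixSpace, ap_smul, ap_add, invol_apply ha, add_comm]
  · rw [mem_negSpace, ap_smul, ap_sub, invol_apply ha, ← smul_neg, neg_sub]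
  · rw [← smul_add, show x + ap a x + (x - ap a x) = (2 : F) • x by rw [two_smul]; abel, smul_smul,
      inv_mul_cancel₀ h2, one_smul]

theorem fix_add_neg (h2 : (2 : F) ≠ 0) (ha : a * a = 1) :
    Module.finrank F (fixSpace a) + Module.finrank F (negSpace a) = Module.finrank F (ι → F) := by
  have hd : fixSpace a ⊓ negSpace a = ⊥ :=
    (Submodule.eq_bot_iff _).2 fun x hx => eq_zero_of_fix_neg h2 hx.1 hx.2
  have hs : fixSpace a ⊔ negSpace a = ⊤ := eq_top_iff.2 fun x _ => by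
    obtain ⟨p, hp, m, hm, e, -, -⟩ := invol_decomp h2 ha x
    exact e ▸ Submodule.add_mem_sup hp hm
  have := Submodule.finrank_sup_add_finrank_inf_eq (fixSpace a) (negSpace a)
  rw [hd, hs, finrank_bot, finrank_top] at this
  omega

theorem dickson_invol' (hB : Nondeg Q) (h2 : (2 : F) ≠ 0) (ha : a * a = 1) :
    dickson hB a = (-1) ^ Module.finrank F (negSpace a) := by
  show (-1 : ℤˣ) ^ (_ + _) = _
  refine neg_one_pow_congr ?_
  have := fix_add_neg h2 ha
  simp only [Nat.even_iff]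
  omega

/-- An isometry fixing one eigenspace pointwise commutes with the involution. -/
theorem commute_of_fix (hB : Nondeg Q) (h2 : (2 : F) ≠ 0) (ha : a * a = 1) {h : Grp Q}
    (hh : (∀ y ∈ negSpace a, ap h y = y) ∨ ∀ y ∈ fixSpace a, ap h y = y) : Commute h a := by
  have key : ∀ (X Y : Submodule F (ι → F)), (∀ y ∈ Y, ap h y = y) → (∀ x ∈ X, ∀ y ∈ Y, B x y = 0) →
      (∀ z, ∃ p ∈ X, ∃ q ∈ Y, z = p + q) → ∀ x ∈ X, ap h x ∈ X := by
    intro X Y hfix horth hdec x hx
    obtain ⟨p, hp, q, hq, e⟩ := hdec (ap h x)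
    have hq0 : q = 0 := hB q fun z => by
      obtain ⟨p', hp', q', hq', rfl⟩ := hdec z
      have h1 : B x q' = 0 := horth x hx q' hq'
      rw [← ap_b h, hfix q' hq', e, b_add_left, horth p hp q' hq', zero_add] at h1
      rw [b_add_right, b_comm q p', horth p' hp' q hq, h1, add_zero]
    rw [e, hq0, add_zero]
    exact hp
  have hdec : ∀ z, ∃ p ∈ fixSpace a, ∃ q ∈ negSpace a, z = p + q := fun z => by
    obtain ⟨p, hp, m, hm, e, -, -⟩ := invol_decomp h2 ha z
    exact ⟨p, hp, m, hm, e⟩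
  have hmaps : (∀ x ∈ fixSpace a, ap h x ∈ fixSpace a) ∧ ∀ x ∈ negSpace a, ap h x ∈ negSpace a := by
    rcases hh with hh | hh
    · exact ⟨key _ _ hh (fun x hx y hy => b_fix_neg h2 hx hy) hdec, fun x hx => by rwa [hh x hx]⟩
    · refine ⟨fun x hx => by rwa [hh x hx], key _ _ hh (fun x hx y hy => by rw [b_comm]; exact b_fix_neg h2 hy hx)
        fun z => ?_⟩
      obtain ⟨p, hp, m, hm, e⟩ := hdec z
      exact ⟨m, hm, p, hp, by rw [e, add_comm]⟩
  refine ext_ap fun z => ?_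
  obtain ⟨p, hp, m, hm, rfl⟩ := hdec z
  simp only [ap_mul, ap_add, mem_fixSpace.1 hp, mem_negSpace.1 hm, mem_fixSpace.1 (hmaps.1 p hp),
    mem_negSpace.1 (hmaps.2 m hm), ap_neg]

/-- Moving a vector inside an eigenspace. -/
theorem exists_move_eigen (hB : Nondeg Q) (h2 : (2 : F) ≠ 0) (ha : a * a = 1) {u v : ι → F}
    (huv : (u ∈ fixSpace a ∧ v ∈ fixSpace a) ∨ (u ∈ negSpace a ∧ v ∈ negSpace a))
    (hQ : Q u = Q v) (h0 : u = 0 ↔ v = 0) :
    ∃ h : Grp Q, Commute h a ∧ ap h u = v ∧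
      ∀ y, (y ∈ negSpace a ∧ u ∈ fixSpace a ∨ y ∈ fixSpace a ∧ u ∈ negSpace a) → ap h y = y := by
  by_cases hu0 : u = 0
  · exact ⟨1, Commute.one_left a, by rw [hu0, h0.1 hu0, ap_one], fun y _ => ap_one y⟩
  have hv0 : v ≠ 0 := fun e => hu0 (h0.2 e)
  have step : ∀ X Y : Submodule F (ι → F), (∀ x ∈ X, ∀ y ∈ Y, B x y = 0) → (∀ x ∈ X, x ∈ Y → x = 0) →
      u ∈ X → v ∈ X → ∃ h : Grp Q, (∀ y ∈ Y, ap h y = y) ∧ ap h u = v := by
    intro X Y horth hdis hu hv
    obtain ⟨T, hT, hTH, hTu⟩ := CfsgLib.Classical.Witt.step_quad Q (bilin_nondeg hB) Y u v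
      (fun h => hu0 (hdis u hu h)) (fun h => hv0 (hdis v hv h))
      (fun h hh => by rw [b_comm h v, b_comm h u, horth v hv h hh, horth u hu h hh]) hQ.symm
    obtain ⟨h, hh⟩ := exists_iso hB T.toLinearMap hT
    exact ⟨h, fun y hy => by rw [hh]; exact hTH y hy, by rw [hh]; exact hTu⟩
  rcases huv with ⟨hu, hv⟩ | ⟨hu, hv⟩
  · obtain ⟨h, hfix, hhu⟩ := step _ _ (fun x hx y hy => b_fix_neg h2 hx hy)
      (fun x hx hy => eq_zero_of_fix_neg h2 hx hy) hu hv
    refine ⟨h, commute_of_fix hB h2 ha (Or.inl hfix), hhu, fun y hy => ?_⟩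
    rcases hy with ⟨hy, -⟩ | ⟨-, hn⟩
    · exact hfix y hy
    · exact absurd (eq_zero_of_fix_neg h2 hu hn) hu0
  · obtain ⟨h, hfix, hhu⟩ := step _ _ (fun x hx y hy => by rw [b_comm]; exact b_fix_neg h2 hy hx)
      (fun x hx hy => eq_zero_of_fix_neg h2 hy hx) hu hv
    refine ⟨h, commute_of_fix hB h2 ha (Or.inr hfix), hhu, fun y hy => ?_⟩
    rcases hy with ⟨-, hf⟩ | ⟨hy, -⟩
    · exact absurd (eq_zero_of_fix_neg h2 hf hu) hu0
    · exact hfix y hy

theorem refl_apply_self {v : ι → F} {r : Grp Q} (hr : IsRefl v r) : ap r v = -v := by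
  rw [hr.2, b_self, ← mul_assoc, mul_comm (Q v)⁻¹, mul_assoc, inv_mul_cancel₀ hr.1, mul_one, two_smul]
  abel

theorem refl_apply_orth {v x : ι → F} {r : Grp Q} (hr : IsRefl v r) (hx : B v x = 0) : ap r x = x := by
  rw [hr.2, hx, mul_zero, zero_smul, sub_zero]

theorem refl_sq {v : ι → F} {r : Grp Q} (hr : IsRefl v r) : r * r = 1 := by
  refine ext_ap fun x => ?_
  rw [ap_mul, ap_one, hr.2 x, ap_sub, ap_smul, refl_apply_self hr, hr.2 x]
  module

/-- Splitting a negated anisotropic vector off an involution. -/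
theorem peel (h2 : (2 : F) ≠ 0) (ha : a * a = 1) {v : ι → F} {r : Grp Q}
    (hr : IsRefl v r) (hv : v ∈ negSpace a) :
    Commute a r ∧ (a * r) * (a * r) = 1 ∧ v ∈ fixSpace (a * r) ∧
      Module.finrank F (negSpace (a * r)) + 1 = Module.finrank F (negSpace a) := by
  have hc : Commute a r := ext_ap fun x => by
    rw [ap_mul, ap_mul, hr.2, hr.2, ap_sub, ap_smul, mem_negSpace.1 hv]
    have : B v (ap a x) = -B v x := by
      rw [← invol_b ha, mem_negSpace.1 hv, ← neg_one_smul F v, b_smul_left]; ring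
    rw [this, mul_neg, neg_smul, smul_neg]
  have hsq : (a * r) * (a * r) = 1 := by
    rw [mul_assoc, ← mul_assoc r, ← hc.eq, mul_assoc a r, refl_sq hr, mul_one, ha]
  refine ⟨hc, hsq, by rw [mem_fixSpace, ap_mul, refl_apply_self hr, ap_neg, mem_negSpace.1 hv, neg_neg], ?_⟩
  have hv0 : v ≠ 0 := fun e => hr.1 (by rw [e, QuadraticMap.map_zero])
  have hbv : B v v ≠ 0 := by rw [b_self]; exact mul_ne_zero h2 hr.1
  have hvfix : v ∈ fixSpace (a * r) := by
    rw [mem_fixSpace, ap_mul, refl_apply_self hr, ap_neg, mem_negSpace.1 hv, neg_neg]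
  have hle : negSpace (a * r) ≤ negSpace a := fun x hx => by
    have h0 : B v x = 0 := b_fix_neg h2 hvfix hx
    rw [mem_negSpace] at hx ⊢
    rwa [ap_mul, refl_apply_orth hr h0] at hx
  have hsup : negSpace (a * r) ⊔ Submodule.span F {v} = negSpace a := by
    refine le_antisymm (sup_le hle (by rwa [Submodule.span_singleton_le_iff_mem])) fun x hx => ?_
    refine Submodule.mem_sup.2 ⟨x - ((B v v)⁻¹ * B v x) • v, ?_, _,
      Submodule.smul_mem _ _ (Submodule.mem_span_singleton_self v), sub_add_cancel _ _⟩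
    have h0 : B v (x - ((B v v)⁻¹ * B v x) • v) = 0 := by
      rw [b_sub_right, b_smul_right, mul_comm (B v v)⁻¹, mul_assoc, inv_mul_cancel₀ hbv, mul_one, sub_self]
    rw [mem_negSpace, ap_mul, refl_apply_orth hr h0]
    exact (negSpace a).sub_mem hx ((negSpace a).smul_mem _ hv)
  have hinf : negSpace (a * r) ⊓ Submodule.span F {v} = ⊥ := (Submodule.eq_bot_iff _).2 fun x hx => by
    obtain ⟨c, rfl⟩ := Submodule.mem_span_singleton.1 hx.2
    exact eq_zero_of_fix_neg h2 ((fixSpace (a * r)).smul_mem c hvfix) hx.1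
  have := Submodule.finrank_sup_add_finrank_inf_eq (negSpace (a * r)) (Submodule.span F {v})
  rw [hsup, hinf, finrank_bot, finrank_span_singleton hv0] at this
  omega

theorem finrank_negSpace_conj (c : Grp Q) :
    Module.finrank F (negSpace (c * a * c⁻¹)) = Module.finrank F (negSpace a) := by
  suffices e : negSpace (c * a * c⁻¹) =
      (negSpace a).map (Matrix.mulVecLin ((c : GL ι F) : Matrix ι ι F)) by
    rw [e]; exact finrank_map_iso c (negSpace a)
  ext x
  constructor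
  · intro hx
    refine ⟨ap c⁻¹ x, ?_, ap_ap_inv c x⟩
    rw [SetLike.mem_coe, mem_negSpace]
    have e : ap (c * a * c⁻¹) x = -x := hx
    rw [ap_mul, ap_mul] at e
    have := congrArg (ap c⁻¹) e
    rwa [ap_inv_ap, ap_neg] at this
  · rintro ⟨y, hy, rfl⟩
    show ap (c * a * c⁻¹) (ap c y) = -ap c y
    rw [ap_mul, ap_mul, ap_inv_ap, mem_negSpace.1 hy, ap_neg]

/-- The negated space is non-degenerate. -/
theorem exists_aniso_neg (hB : Nondeg Q) (h2 : (2 : F) ≠ 0) (ha : a * a = 1)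
    (hk : 0 < Module.finrank F (negSpace a)) : ∃ v ∈ negSpace a, Q v ≠ 0 := by
  by_contra hc
  push Not at hc
  obtain ⟨⟨v, hv⟩, hv0⟩ := Module.finrank_pos_iff_exists_ne_zero.1 hk
  refine hv0 (Subtype.ext (hB v fun y => ?_))
  obtain ⟨p, hp, m, hm, rfl, -, -⟩ := invol_decomp h2 ha y
  have h := hc (v + m) ((negSpace a).add_mem hv hm)
  rw [q_add, hc v hv, hc m hm, zero_add, zero_add] at h
  rw [b_add_right, b_comm v p, b_fix_neg h2 hp hv, h, add_zero]

theorem univ_neg (hB : Nondeg Q) (h2 : (2 : F) ≠ 0) (ha : a * a = 1)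
    (hk : 2 ≤ Module.finrank F (negSpace a)) : Univ Q (negSpace a) := by
  refine univ_of_dim ?_
  have : negSpace a ⊓ orth Q (negSpace a) = ⊥ := (Submodule.eq_bot_iff _).2 fun x hx => hB x fun y => by
    obtain ⟨p, hp, m, hm, rfl, -, -⟩ := invol_decomp h2 ha y
    rw [b_add_right, b_comm x p, b_fix_neg h2 hp hx.1, b_comm x m, mem_orth.1 hx.2 m hm, add_zero]
  rw [this, finrank_bot]
  omega

/-- Involutions with eigenspaces of equal dimensions and the same spinor norm are conjugate. -/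
theorem exists_conj_invol (hB : Nondeg Q) (h2 : (2 : F) ≠ 0) (hn : 2 ≤ Module.finrank F (ι → F)) :
    ∀ (k : ℕ) (a b : Grp Q), a * a = 1 → b * b = 1 → Module.finrank F (negSpace a) = k →
      Module.finrank F (negSpace b) = k → spinor Q 1 a = spinor Q 1 b → ∃ c : Grp Q, c * a * c⁻¹ = b := by
  intro k
  induction k with
  | zero =>
    intro a b ha hb hka hkb _
    have key : ∀ a : Grp Q, a * a = 1 → Module.finrank F (negSpace a) = 0 → a = 1 := fun a ha h => ext_ap fun x => by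
      obtain ⟨p, hp, m, hm, rfl, -, -⟩ := invol_decomp h2 ha x
      rw [Submodule.finrank_eq_zero.1 h, Submodule.mem_bot] at hm
      rw [hm, add_zero, mem_fixSpace.1 hp, ap_one]
    exact ⟨1, by rw [key a ha hka, key b hb hkb]; group⟩
  | succ k ih =>
    intro a b ha hb hka hkb hsp
    obtain ⟨v, hv, hQv⟩ := exists_aniso_neg hB h2 ha (by omega)
    obtain ⟨v', hv', hQ⟩ : ∃ v' ∈ negSpace b, Q v' = Q v := by
      rcases Nat.eq_zero_or_pos k with rfl | hk
      · obtain ⟨v', hv', hQv'⟩ := exists_aniso_neg hB h2 hb (by omega)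
        obtain ⟨r, hr⟩ := exists_refl hB hQv
        obtain ⟨r', hr'⟩ := exists_refl hB hQv'
        have key : ∀ (a : Grp Q) (v : ι → F) (r : Grp Q), a * a = 1 → Module.finrank F (negSpace a) = 1 →
            IsRefl v r → v ∈ negSpace a → a = r := fun a v r ha h1 hr hv => by
          obtain ⟨-, hs, -, hd⟩ := peel h2 ha hr hv
          have h0 : a * r = 1 := ext_ap fun x => by
            obtain ⟨p, hp, m, hm, rfl, -, -⟩ := invol_decomp h2 hs x
            rw [Submodule.finrank_eq_zero.1 (show Module.finrank F (negSpace (a * r)) = 0 by omega),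
              Submodule.mem_bot] at hm
            rw [hm, add_zero, mem_fixSpace.1 hp, ap_one]
          rw [← mul_one a, ← refl_sq hr, ← mul_assoc, h0, one_mul]
        rw [key a v r ha hka hr hv, key b v' r' hb hkb hr' hv'] at hsp
        obtain ⟨s, hs⟩ := ((omega_eq_ker_psi hB h2 hn (one_ne_zero (α := F))).2.2 v v' r r' hr hr').1 hsp
        refine ⟨(s / Q v') • v', (negSpace b).smul_mem _ hv', ?_⟩
        rw [q_smul]
        field_simp
        linear_combination -hs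
      · exact (univ_neg hB h2 hb (by omega)) (Q v) hQv
    have hX : ∀ u : ι → F, Q u ≠ 0 → u ∉ (⊥ : Submodule F (ι → F)) := fun u hu h => hu (by
      rw [(Submodule.mem_bot F).1 h, QuadraticMap.map_zero])
    obtain ⟨T, hT, -, hTv⟩ := CfsgLib.Classical.Witt.step_quad Q (bilin_nondeg hB) ⊥ v v' (hX v hQv)
      (hX v' (hQ ▸ hQv)) (fun h hh => by rw [(Submodule.mem_bot F).1 hh, b_zero_left, b_zero_left]) hQ
    obtain ⟨c₀, hc₀⟩ := exists_iso hB T.toLinearMap hT
    have hc₀v : ap c₀ v = v' := by rw [hc₀]; exact hTv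
    set a₀ := c₀ * a * c₀⁻¹ with ha₀
    have ha₀2 : a₀ * a₀ = 1 := by
      rw [ha₀, show c₀ * a * c₀⁻¹ * (c₀ * a * c₀⁻¹) = c₀ * (a * a) * c₀⁻¹ by group, ha]; group
    have hv₀ : v' ∈ negSpace a₀ := by
      rw [mem_negSpace, ha₀, ← hc₀v, ap_mul, ap_mul, ap_inv_ap, mem_negSpace.1 hv, ap_neg]
    obtain ⟨r, hr⟩ := exists_refl hB (v := v') (hQ ▸ hQv)
    obtain ⟨-, ha1, hfa, hda⟩ := peel h2 ha₀2 hr hv₀
    obtain ⟨-, hb1, hfb, hdb⟩ := peel h2 hb hr hv'
    have hk0 : Module.finrank F (negSpace a₀) = k + 1 := by rw [ha₀, finrank_negSpace_conj, hka]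
    obtain ⟨c₁, hc₁⟩ := ih (a₀ * r) (b * r) ha1 hb1 (by omega) (by omega) (by
      have e : spinor Q 1 a₀ = spinor Q 1 a := by
        simp only [ha₀, map_mul, map_inv, mul_comm (spinor Q 1 c₀), mul_inv_cancel_right]
      rw [map_mul (spinor Q 1) a₀ r, map_mul (spinor Q 1) b r, e, hsp])
    have hu : ap c₁ v' ∈ fixSpace (b * r) := by
      rw [mem_fixSpace, ← hc₁, ap_mul _ c₁⁻¹, ap_inv_ap, ap_mul, mem_fixSpace.1 hfa]
    obtain ⟨h, hcomm, hhu, -⟩ := exists_move_eigen hB h2 hb1 (Or.inl ⟨hu, hfb⟩) (ap_q c₁ v')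
      ⟨fun e => ap_inj c₁ (by rw [e, ap_zero]), fun e => by rw [e, ap_zero]⟩
    set c₂ := h * c₁ with hc₂
    have hcv : ap c₂ v' = v' := by rw [hc₂, ap_mul, hhu]
    have hcr : c₂ * r * c₂⁻¹ = r := by
      have := refl_conj hr c₂
      rw [hcv] at this
      exact refl_unique this hr
    have hc2 : c₂ * (a₀ * r) * c₂⁻¹ = b * r := by
      rw [hc₂, show h * c₁ * (a₀ * r) * (h * c₁)⁻¹ = h * (c₁ * (a₀ * r) * c₁⁻¹) * h⁻¹ by group, hc₁, hcomm.eq]
      group
    refine ⟨c₂ * c₀, ?_⟩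
    calc c₂ * c₀ * a * (c₂ * c₀)⁻¹ = c₂ * a₀ * c₂⁻¹ := by rw [ha₀]; group
      _ = c₂ * (a₀ * r) * c₂⁻¹ * (c₂ * r * c₂⁻¹) := by
          rw [show c₂ * (a₀ * r) * c₂⁻¹ * (c₂ * r * c₂⁻¹) = c₂ * (a₀ * (r * r)) * c₂⁻¹ by group, refl_sq hr,
            mul_one]
      _ = b := by rw [hc2, hcr, mul_assoc, refl_sq hr, mul_one]

end CfsgLib.OrthReversal
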