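import Cfsg.Agent.Lib.OrthReversal.Commutator

/-!
Isotropic vectors for the difference of the forms of two involutions, and small counting lemmas.
-/

set_option autoImplicit false
set_option linter.unusedSectionVars false

namespace CfsgLib.OrthReversal

open CfsgLib.Orth
open Matrix

variable {F : Type*} [Field F] [Finite F] {ι : Type} [Fintype ι] [DecidableEq ι]
variable {Q : QuadraticForm F (ι → F)}

local notation "B" => QuadraticMap.polar (DFunLike.coe Q)

/-- The difference of the forms of two isometries. -/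
noncomputable def rq (a b : Grp Q) : LinearMap.BilinForm F (ι → F) :=
  (QuadraticMap.polarBilin Q).compl₁₂ (Matrix.mulVecLin ((a : GL ι F) : Matrix ι ι F) -
    Matrix.mulVecLin ((b : GL ι F) : Matrix ι ι F)) LinearMap.id

theorem rq_apply (a b : Grp Q) (x y : ι → F) : rq a b x y = B (ap a x) y - B (ap b x) y := by
  rw [← b_sub_left]; rfl

variable {a b : Grp Q}

theorem rq_comm (ha : a * a = 1) (hb : b * b = 1) (x y : ι → F) : rq a b x y = rq a b y x := by
  rw [rq_apply, rq_apply, invol_b ha, invol_b hb, b_comm x, b_comm x]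

theorem rq_self_shift (ha : a * a = 1) (hb : b * b = 1) (u v : ι → F) (s : F) :
    rq a b (u + s • v) (u + s • v) = rq a b u u + 2 * s * rq a b u v + s * s * rq a b v v := by
  simp only [map_add, map_smul, LinearMap.add_apply, LinearMap.smul_apply, smul_eq_mul, rq_comm ha hb v u]
  ring

theorem mem_fix_mul_iff (ha : a * a = 1) {x : ι → F} : x ∈ fixSpace (a * b) ↔ ap a x = ap b x := by
  rw [mem_fixSpace, ap_mul]
  constructor
  · intro h; conv_lhs => rw [← h, invol_apply ha]
  · intro h; rw [← h, invol_apply ha]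

theorem exists_mem_ker_two {W : Type*} [AddCommGroup W] [Module F W] [FiniteDimensional F W]
    {C : Submodule F W} (hC : 3 ≤ Module.finrank F C) (φ ψ : W →ₗ[F] F) :
    ∃ z ∈ C, z ≠ 0 ∧ φ z = 0 ∧ ψ z = 0 := by
  have h : LinearMap.ker ((φ.prod ψ).comp C.subtype) ≠ ⊥ := fun h => by
    have h1 := LinearMap.finrank_le_finrank_of_injective (LinearMap.ker_eq_bot.1 h)
    rw [Module.finrank_prod, Module.finrank_self] at h1
    omega
  obtain ⟨z, hz, hz0⟩ := (Submodule.ne_bot_iff _).1 h
  have h1 : (φ z, ψ z) = (0, 0) := hz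
  exact ⟨z, z.2, fun e => hz0 (Subtype.ext e), (Prod.ext_iff.1 h1).1, (Prod.ext_iff.1 h1).2⟩

/-- Three dimensions give an isotropic vector. -/
theorem exists_isotropic_of_three (h2 : (2 : F) ≠ 0) {W : Type*} [AddCommGroup W] [Module F W]
    [FiniteDimensional F W] (Φ : LinearMap.BilinForm F W) (hΦ : ∀ x y, Φ x y = Φ y x) {C : Submodule F W}
    (hC : 3 ≤ Module.finrank F C) : ∃ x ∈ C, x ≠ 0 ∧ Φ x x = 0 := by
  by_contra hc
  push Not at hc
  obtain ⟨x, hx, hx0, -, -⟩ := exists_mem_ker_two hC 0 0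
  obtain ⟨y, hy, hy0, hxy, -⟩ := exists_mem_ker_two hC (Φ x) 0
  obtain ⟨z, hz, hz0, hxz, hyz⟩ := exists_mem_ker_two hC (Φ x) (Φ y)
  cases nonempty_fintype F
  obtain ⟨s, t, hst⟩ := FiniteField.exists_root_sum_quadratic
    (f := Polynomial.C (Φ x x) * Polynomial.X ^ 2 + Polynomial.C (Φ z z))
    (g := Polynomial.C (Φ y y) * Polynomial.X ^ 2)
    (by have := hc x hx hx0; compute_degree!) (by have := hc y hy hy0; compute_degree!)
    (by
      have := FiniteField.odd_card_of_char_ne_two (F := F) (fun e => h2 (by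
        have := CharP.cast_eq_zero F (ringChar F); rwa [e, Nat.cast_ofNat] at this))
      omega)
  simp only [Polynomial.eval_add, Polynomial.eval_mul, Polynomial.eval_C, Polynomial.eval_pow,
    Polynomial.eval_X] at hst
  refine hc (s • x + t • y + z) (C.add_mem (C.add_mem (C.smul_mem _ hx) (C.smul_mem _ hy)) hz) (fun e => ?_) ?_
  · have h := congrArg (Φ z) e
    simp only [map_add, map_smul, map_zero, smul_eq_mul, hΦ z x, hΦ z y, hxz, hyz, mul_zero, zero_add] at h
    exact hc z hz hz0 h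
  · simp only [map_add, map_smul, LinearMap.add_apply, LinearMap.smul_apply, smul_eq_mul, hΦ y x, hΦ z x, hΦ z y,
      hxy, hxz, hyz]
    linear_combination hst

/-- An isotropic vector outside a small subspace. -/
theorem exists_isotropic_not_mem (h2 : (2 : F) ≠ 0) {W : Type*} [AddCommGroup W] [Module F W]
    [FiniteDimensional F W] (Φ : LinearMap.BilinForm F W) (hΦ : ∀ x y, Φ x y = Φ y x) (H K : Submodule F W)
    (h : Module.finrank F K + 3 ≤ Module.finrank F H) : ∃ e ∈ H, e ∉ K ∧ Φ e e = 0 := by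
  obtain ⟨C, hC⟩ := exists_isCompl K
  have h1 := Submodule.finrank_sup_add_finrank_inf_eq H C
  have h3 := Submodule.finrank_le (H ⊔ C)
  have h4 := Submodule.finrank_add_eq_of_isCompl hC
  obtain ⟨e, he, he0, hee⟩ := exists_isotropic_of_three h2 Φ hΦ (C := H ⊓ C) (by omega)
  exact ⟨e, he.1, fun hK => he0 (Submodule.disjoint_def.1 hC.disjoint e hK he.2), hee⟩

/-- A vector of a subspace outside two proper parts. -/
theorem exists_not_mem_two {W : Type*} [AddCommGroup W] [Module F W] {C Y Z : Submodule F W}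
    (hY : ¬ C ≤ Y) (hZ : ¬ C ≤ Z) : ∃ x ∈ C, x ∉ Y ∧ x ∉ Z := by
  obtain ⟨y, hy, hyY⟩ := Set.not_subset.1 hY
  obtain ⟨z, hz, hzZ⟩ := Set.not_subset.1 hZ
  by_cases h1 : y ∈ Z
  · by_cases h2 : z ∈ Y
    · exact ⟨y + z, C.add_mem hy hz, fun h => hyY (by simpa using Y.sub_mem h h2),
        fun h => hzZ (by simpa using Z.sub_mem h h1)⟩
    · exact ⟨z, hz, h2, hzZ⟩
  · exact ⟨y, hy, hyY, h1⟩

/-- A vector outside four subspaces. -/
theorem exists_not_mem_four {W : Type*} [AddCommGroup W] [Module F W] [FiniteDimensional F W]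
    (X₁ X₂ Y₁ Y₂ : Submodule F W)
    (h : 2 + 2 * Module.finrank F X₁ ≤ 2 * Module.finrank F W) (h' : Module.finrank F X₂ + 1 ≤ Module.finrank F W)
    (k : Module.finrank F Y₁ + 2 ≤ Module.finrank F W) (k' : Module.finrank F Y₂ + 2 ≤ Module.finrank F W)
    (hq : 3 ≤ Nat.card F) :
    ∃ x, x ∉ X₁ ∧ x ∉ X₂ ∧ x ∉ Y₁ ∧ x ∉ Y₂ := by
  classical
  by_contra hc
  push Not at hc
  have : Finite W := Module.finite_of_finite F
  set d := Module.finrank F W
  set q := Nat.card F with hqdef
  have hsub : (Set.univ : Set W) ⊆ (X₁ : Set W) ∪ X₂ ∪ (Y₁ ∪ Y₂) := fun x _ => by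
    by_contra hx
    simp only [Set.mem_union, SetLike.mem_coe, not_or] at hx
    exact hx.2.2 (hc x hx.1.1 hx.1.2 hx.2.1)
  have h1 := Set.ncard_le_ncard hsub (Set.toFinite _)
  have h2 := (Set.ncard_union_le ((X₁ : Set W) ∪ X₂) (Y₁ ∪ Y₂)).trans
    (add_le_add (Set.ncard_union_le _ _) (Set.ncard_union_le _ _))
  have hcard : ∀ X : Submodule F W, (X : Set W).ncard = q ^ Module.finrank F X := fun X => by
    rw [← Nat.card_coe_set_eq]
    exact Module.natCard_eq_pow_finrank
  rw [Set.ncard_univ, Module.natCard_eq_pow_finrank (K := F)] at h1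
  rw [hcard, hcard, hcard, hcard] at h2
  have hpos : 0 < q := by omega
  have b1 : q ^ Module.finrank F X₁ * q ≤ q ^ d := by
    rw [← pow_succ]; exact Nat.pow_le_pow_right hpos (by omega)
  have b2 : q ^ Module.finrank F X₂ * q ≤ q ^ d := by
    rw [← pow_succ]; exact Nat.pow_le_pow_right hpos (by omega)
  have b3 : q ^ Module.finrank F Y₁ * (q * q) ≤ q ^ d := by
    rw [← sq, ← pow_add]; exact Nat.pow_le_pow_right hpos (by omega)
  have b4 : q ^ Module.finrank F Y₂ * (q * q) ≤ q ^ d := by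
    rw [← sq, ← pow_add]; exact Nat.pow_le_pow_right hpos (by omega)
  have h5 := h1.trans h2
  have hlt : 2 * q + 2 < q * q := by nlinarith
  have hd : 0 < q ^ d := pow_pos hpos d
  nlinarith [Nat.mul_le_mul_right (q * q) h5, Nat.mul_le_mul_right q b1, Nat.mul_le_mul_right q b2, b3, b4,
    Nat.mul_lt_mul_of_pos_left hlt hd]

/-- A nonsquare of the form `1 + y ^ 2`. -/
theorem exists_one_add_sq_nonsquare (h2 : (2 : F) ≠ 0) : ∃ y : F, ¬ IsSquare (1 + y * y) := by
  by_contra hc
  push Not at hc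
  cases nonempty_fintype F
  obtain ⟨x, hx⟩ := FiniteField.exists_nonsquare (F := F) fun h => h2 (by
    have := CharP.cast_eq_zero F (ringChar F)
    rwa [h, Nat.cast_ofNat] at this)
  obtain ⟨p, q, hpq⟩ := FiniteField.exists_root_sum_quadratic
    (f := Polynomial.X ^ 2 + Polynomial.C (-x)) (g := Polynomial.X ^ 2) (by compute_degree!) (by compute_degree!)
    (by
      have := FiniteField.odd_card_of_char_ne_two (F := F) (fun e => h2 (by
        have := CharP.cast_eq_zero F (ringChar F); rwa [e, Nat.cast_ofNat] at this))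
      omega)
  simp only [Polynomial.eval_add, Polynomial.eval_C, Polynomial.eval_pow, Polynomial.eval_X] at hpq
  refine hx ?_
  by_cases hp : p = 0
  · exact ⟨q, by subst hp; linear_combination -hpq⟩
  · obtain ⟨r, hr⟩ := hc (q / p)
    refine ⟨p * r, ?_⟩
    field_simp at hr
    linear_combination hr - hpq

end CfsgLib.OrthReversal
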