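import Cfsg.Agent.Lib.OrthReversal.Pair

/-!
Every isometry of a non-degenerate symmetric form in odd characteristic is a product of two isometric
involutions with controlled eigenspace dimensions.
-/

set_option autoImplicit false
set_option linter.unusedSectionVars false

namespace CfsgLib.OrthReversal

open Polynomial Module
open CfsgLib.SpComm (ND Inv cyc mem_cyc self_mem_cyc cyc_inv nn nn_eq poly_symm_zero reverse_reverse'
  exists_dual_of_ND aeval_commute)

variable {F : Type*} [Field F] {V : Type*} [AddCommGroup V] [Module F V] [FiniteDimensional F V]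
variable {B : LinearMap.BilinForm F V} {T : V ≃ₗ[F] V} {U : Submodule F V} {ε : F} {k : ℕ} {x₀ : V}

theorem rv_pair (h2 : (2 : F) ≠ 0) (hI : Iso B T) (hU : Inv T U) (hnd : ND B U) (hε : ε = 1 ∨ ε = -1)
    (hk : ∀ u ∈ U, (nn T ε ^ k) u = 0) (hk1 : 1 ≤ k) (hzero : ∀ v ∈ U, B ((nn T ε ^ (k - 1)) v) v = 0)
    (hx : x₀ ∈ U) (hx0 : (nn T ε ^ (k - 1)) x₀ ≠ 0)
    (hprime : ∀ W : Submodule F V, W ≤ U → Inv T W → ND B W → W ≠ ⊥ → W = U) : Rv B T U := by
  have hwU : (nn T ε ^ (k - 1)) x₀ ∈ U := by rw [nn_eq, ← map_pow]; exact hU.poly_mem _ hx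
  obtain ⟨y₁, hy₁, hy₁'⟩ : ∃ v ∈ U, B ((nn T ε ^ (k - 1)) x₀) v ≠ 0 := by
    by_contra hc
    push Not at hc
    exact hx0 (hnd _ hwU hc)
  set y₀ := (B ((nn T ε ^ (k - 1)) x₀) y₁)⁻¹ • y₁ with hy₀def
  have hy : y₀ ∈ U := U.smul_mem _ hy₁
  have hw : B ((nn T ε ^ (k - 1)) x₀) y₀ = 1 := by
    rw [hy₀def, map_smul, smul_eq_mul, inv_mul_cancel₀ hy₁']
  have hpol : ∀ u ∈ U, ∀ v ∈ U, B ((nn T ε ^ (k - 1)) u) v = - B ((nn T ε ^ (k - 1)) v) u := fun u hu v hv => by
    have := hzero (u + v) (U.add_mem hu hv)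
    simp only [map_add, LinearMap.add_apply, hzero u hu, hzero v hv] at this
    linear_combination this
  have hev : Even k := by
    have h1 := hI.nn_top hε hk (a := 0) (b := k - 1) (by omega) hx y₀
    rw [pow_zero, Module.End.one_apply, hw, mul_one, hI.symm, hpol y₀ hy x₀ hx, hw] at h1
    rcases Nat.even_or_odd k with h | h
    · exact h
    · exfalso
      obtain ⟨p, hp⟩ := h
      rw [show k - 1 = 2 * p by omega, pow_mul, neg_one_sq, one_pow] at h1
      exact h2 (by linear_combination -h1)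
  obtain ⟨x, hxU, hxtop, hxx⟩ := exists_isotropic h2 hI hε hU hk hev hx hy hw
  have hw1 : B ((nn T ε ^ (k - 1)) x) y₀ = 1 := by rw [hxtop, hw]
  obtain ⟨y, hyU, hytop, hyy⟩ := exists_isotropic (x := y₀) (y := -x) h2 hI hε hU hk hev hy (U.neg_mem hxU)
    (by rw [map_neg, hpol y₀ hy x hxU, hw1, neg_neg])
  have hxy : B ((nn T ε ^ (k - 1)) x) y = 1 := by
    rw [hpol x hxU y hyU, hytop, ← hpol x hxU y₀ hy, hw1]
  have hiso : ∀ z : V, (∀ a b : ℕ, B ((nn T ε ^ a) z) ((nn T ε ^ b) z) = 0) →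
      ∀ u ∈ cyc T z, ∀ v ∈ cyc T z, B u v = 0 := by
    intro z hz u hu v hv
    obtain ⟨f, rfl⟩ := mem_cyc.1 hu
    obtain ⟨g, rfl⟩ := mem_cyc.1 hv
    have e : ∀ f : F[X], aeval (T : End F V) f = aeval (nn T ε) (f.comp (X + C ε)) := fun f => by
      rw [aeval_comp]
      congr 1
      rw [map_add, aeval_X, aeval_C, nn, Algebra.algebraMap_eq_smul_one, sub_add_cancel]
    rw [e f, e g]
    generalize f.comp (X + C ε) = f
    generalize g.comp (X + C ε) = g
    induction f using Polynomial.induction_on' with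
    | add p q hp hq => rw [map_add (aeval (nn T ε)), LinearMap.add_apply, map_add, LinearMap.add_apply, hp, hq,
        add_zero]
    | monomial a c =>
      induction g using Polynomial.induction_on' with
      | add p q hp hq => rw [map_add (aeval (nn T ε)), LinearMap.add_apply, map_add, hp, hq, add_zero]
      | monomial b d => simp [aeval_monomial, Module.algebraMap_end_apply, hz a b]
  have hLx := hiso x hxx
  have hLy := hiso y hyy
  have hndP := pair_ND hI hU hε hk hk1 hzero hxU hyU hxy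
  have hP : cyc T x ⊔ cyc T y = U := by
    refine hprime _ (sup_le (hU.cyc_le hxU) (hU.cyc_le hyU)) (fun u hu => ?_) hndP fun hb => ?_
    · obtain ⟨a, ha, b, hb, rfl⟩ := Submodule.mem_sup.1 hu
      rw [map_add]
      exact Submodule.add_mem_sup (cyc_inv x a ha) (cyc_inv y b hb)
    · have : x ∈ cyc T x ⊔ cyc T y := Submodule.mem_sup_left (self_mem_cyc x)
      rw [hb, Submodule.mem_bot] at this
      exact one_ne_zero (α := F) (by rw [← hxy, this, map_zero, map_zero, LinearMap.zero_apply])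
  have hdisj : ∀ u ∈ cyc T x, u ∈ cyc T y → u = 0 := fun u hu hu' => by
    refine hnd u (hP ▸ Submodule.mem_sup_left hu) fun v hv => ?_
    rw [← hP] at hv
    obtain ⟨a, ha, b, hb, rfl⟩ := Submodule.mem_sup.1 hv
    rw [map_add, hLx u hu a ha, hLy u hu' b hb, add_zero]
  -- the exchanging involution
  let φ : F[X] × F[X] →ₗ[F] V := (evalAt (T : End F V) x).coprod (evalAt (T : End F V) y)
  let ψ : F[X] × F[X] →ₗ[F] V := (evalAt (T.symm : End F V) y).coprod (evalAt (T.symm : End F V) x)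
  have hinvsymm : ∀ (z : V) (f : F[X]), aeval (T.symm : End F V) f z ∈ cyc T z := fun z f =>
    (cyc_inv z).poly_symm_mem _ (self_mem_cyc z)
  have hkill : ∀ z z' : V, (∀ u ∈ cyc T z, ∀ v ∈ cyc T z, B u v = 0) → U ≤ cyc T z ⊔ cyc T z' →
      z ∈ U → ∀ f : F[X], aeval (T : End F V) f z' = 0 → aeval (T.symm : End F V) f z = 0 := by
    intro z z' hz hle hzU f hf
    refine hnd _ (hU.poly_symm_mem _ hzU) fun v hv => ?_
    obtain ⟨a, ha, b, hb, rfl⟩ := Submodule.mem_sup.1 (hle hv)
    obtain ⟨g, rfl⟩ := mem_cyc.1 hb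
    rw [map_add, hz _ (hinvsymm z f) a ha, zero_add, hI.adj', ← Module.End.mul_apply, ← map_mul, mul_comm, map_mul,
      Module.End.mul_apply, hf, map_zero, map_zero]
  obtain ⟨a, ha⟩ := exists_map_of_ker φ ψ fun p hp => by
    obtain ⟨f, g⟩ := p
    simp only [φ, ψ, LinearMap.coprod_apply, evalAt_apply] at hp ⊢
    have h0 : aeval (T : End F V) f x = 0 := hdisj _ (mem_cyc.2 ⟨f, rfl⟩) (by
      rw [eq_neg_of_add_eq_zero_left hp]; exact Submodule.neg_mem _ (mem_cyc.2 ⟨g, rfl⟩))
    rw [h0, zero_add] at hp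
    rw [hkill y x hLy (by rw [sup_comm, hP]) hyU f h0, hkill x y hLx hP.ge hxU g hp, add_zero]
  have hax : ∀ f : F[X], a (aeval (T : End F V) f x) = aeval (T.symm : End F V) f y := fun f => by
    simpa [φ, ψ, evalAt_apply] using ha (f, 0)
  have hay : ∀ f : F[X], a (aeval (T : End F V) f y) = aeval (T.symm : End F V) f x := fun f => by
    simpa [φ, ψ, evalAt_apply] using ha (0, f)
  have hdec : ∀ u ∈ U, ∃ f g : F[X], u = aeval (T : End F V) f x + aeval (T : End F V) g y := fun u hu => by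
    rw [← hP] at hu
    obtain ⟨p, hp, q, hq, e⟩ := Submodule.mem_sup.1 hu
    obtain ⟨f, rfl⟩ := mem_cyc.1 hp
    obtain ⟨g, rfl⟩ := mem_cyc.1 hq
    exact ⟨f, g, e.symm⟩
  have hcross : ∀ (f g : F[X]), B (aeval (T.symm : End F V) f y) (aeval (T.symm : End F V) g x) =
      B (aeval (T : End F V) f x) (aeval (T : End F V) g y) := fun f g => by rw [hI.adj₂, hI.symm]
  have hback : ∀ (z z' : V), (∀ f : F[X], a (aeval (T : End F V) f z) = aeval (T.symm : End F V) f z') →
      (∀ f : F[X], a (aeval (T : End F V) f z') = aeval (T.symm : End F V) f z) →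
      (∀ u ∈ cyc T z, ∀ v ∈ cyc T z, B u v = 0) → U ≤ cyc T z ⊔ cyc T z' → z ∈ U → z' ∈ U →
      ∀ f : F[X], a (aeval (T.symm : End F V) f z') = aeval (T : End F V) f z := by
    intro z z' h1 h1' hz hle hzU hz'U f
    obtain ⟨g, hg⟩ := mem_cyc.1 (hinvsymm z' f)
    rw [← hg, h1']
    refine sub_eq_zero.1 (hnd _ (U.sub_mem (hU.poly_symm_mem _ hzU) (hU.poly_mem _ hzU)) fun v hv => ?_)
    obtain ⟨p, hp, q, hq, rfl⟩ := Submodule.mem_sup.1 (hle hv)
    obtain ⟨r, rfl⟩ := mem_cyc.1 hq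
    rw [map_add, hz _ (Submodule.sub_mem _ (hinvsymm z g) (mem_cyc.2 ⟨f, rfl⟩)) p hp, zero_add, map_sub,
      LinearMap.sub_apply, sub_eq_zero]
    calc B (aeval (T.symm : End F V) g z) (aeval (T : End F V) r z')
        = B (aeval (T.symm : End F V) r z) (aeval (T : End F V) g z') := by
          rw [hI.adj', hI.adj', ← Module.End.mul_apply, ← map_mul, mul_comm, map_mul, Module.End.mul_apply]
      _ = B (aeval (T : End F V) f z) (aeval (T : End F V) r z') := by rw [hg, hI.adj₂]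
  have hmap : ∀ u ∈ cyc T x, a u ∈ cyc T y := fun u hu => by
    obtain ⟨f, rfl⟩ := mem_cyc.1 hu
    rw [hax]
    exact hinvsymm y f
  have hmap' : ∀ u ∈ cyc T y, a u ∈ cyc T x := fun u hu => by
    obtain ⟨f, rfl⟩ := mem_cyc.1 hu
    rw [hay]
    exact hinvsymm x f
  have hrev : IsRev B T U a := by
    refine ⟨fun u hu => ?_, fun u hu => ?_, fun u hu v hv => ?_, fun u hu => ?_⟩
    · obtain ⟨f, g, rfl⟩ := hdec u hu
      rw [map_add, hax, hay]
      exact U.add_mem (hU.poly_symm_mem _ hyU) (hU.poly_symm_mem _ hxU)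
    · obtain ⟨f, g, rfl⟩ := hdec u hu
      rw [map_add, hax, hay, map_add, hback x y hax hay hLx hP.ge hxU hyU,
        hback y x hay hax hLy (by rw [sup_comm, hP]) hyU hxU]
    · obtain ⟨f, g, rfl⟩ := hdec u hu
      obtain ⟨f', g', rfl⟩ := hdec v hv
      have z1 : ∀ p q : F[X], B (aeval (T.symm : End F V) p y) (aeval (T.symm : End F V) q y) = 0 := fun p q =>
        hLy _ (hinvsymm y p) _ (hinvsymm y q)
      have z2 : ∀ p q : F[X], B (aeval (T.symm : End F V) p x) (aeval (T.symm : End F V) q x) = 0 := fun p q =>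
        hLx _ (hinvsymm x p) _ (hinvsymm x q)
      have z3 : ∀ p q : F[X], B (aeval (T : End F V) p y) (aeval (T : End F V) q y) = 0 := fun p q =>
        hLy _ (mem_cyc.2 ⟨p, rfl⟩) _ (mem_cyc.2 ⟨q, rfl⟩)
      have z4 : ∀ p q : F[X], B (aeval (T : End F V) p x) (aeval (T : End F V) q x) = 0 := fun p q =>
        hLx _ (mem_cyc.2 ⟨p, rfl⟩) _ (mem_cyc.2 ⟨q, rfl⟩)
      simp only [map_add, LinearMap.add_apply, hax, hay, z1, z2, z3, z4, hcross f g', zero_add, add_zero]
      rw [hI.symm (aeval (T.symm : End F V) g x), hcross f' g, hI.symm (aeval (T : End F V) g y)]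
    · obtain ⟨f, g, rfl⟩ := hdec u hu
      have e : ∀ (f : F[X]) z, T (aeval (T : End F V) f z) = aeval (T : End F V) (X * f) z := fun f z => by
        rw [map_mul, aeval_X, Module.End.mul_apply]; rfl
      have e' : ∀ (f : F[X]) z, T (aeval (T.symm : End F V) (X * f) z) = aeval (T.symm : End F V) f z :=
        fun f z => by rw [map_mul, aeval_X, Module.End.mul_apply, LinearEquiv.coe_coe, T.apply_symm_apply]
      simp only [map_add, e, hax, hay]
      rw [e', e']
  refine rv_zero hrev (dd_swap h2 (hU.cyc_le hxU) (hU.cyc_le hyU) hP.ge hdisj hrev.sq hmap hmap')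
    (dd_swap h2 (hU.cyc_le hxU) (hU.cyc_le hyU) hP.ge hdisj (hrev.mul hI hU).sq
      (fun u hu => hmap _ (cyc_inv x u hu)) fun u hu => hmap' _ (cyc_inv y u hu))

theorem rv_prime (h2 : (2 : F) ≠ 0) (hI : Iso B T) (hU : Inv T U) (hnd : ND B U) (h0 : U ≠ ⊥)
    (hprime : ∀ W : Submodule F V, W ≤ U → Inv T W → ND B W → W ≠ ⊥ → W = U) : Rv B T U := by
  classical
  set Tu : End F U := (T : End F V).restrict hU
  have hres : ∀ (f : F[X]) (u : U), ((aeval Tu f u : U) : V) = aeval (T : End F V) f (u : V) := by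
    intro f
    induction f using Polynomial.induction_on with
    | C a => simp
    | add p q hp hq => simp [hp, hq]
    | monomial n a ih =>
      intro u
      rw [pow_succ, ← mul_assoc, map_mul _ (C a * X ^ n) X, map_mul _ (C a * X ^ n) X, Module.End.mul_apply,
        Module.End.mul_apply, aeval_X, aeval_X, ih]
      rfl
  have : Nontrivial U := Submodule.nontrivial_iff_ne_bot.2 h0
  have hμint : IsIntegral F Tu := Algebra.IsIntegral.isIntegral _
  obtain ⟨μ, hμdef⟩ : ∃ μ, μ = minpoly F Tu := ⟨_, rfl⟩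
  have hμ : ∀ u ∈ U, aeval (T : End F V) μ u = 0 := fun u hu => by
    rw [← hres μ ⟨u, hu⟩, hμdef, minpoly.aeval, LinearMap.zero_apply, Submodule.coe_zero]
  have hμdvd : ∀ f : F[X], (∀ u ∈ U, aeval (T : End F V) f u = 0) → μ ∣ f := fun f hf =>
    hμdef ▸ minpoly.dvd _ _ (LinearMap.ext fun u => Subtype.ext (by rw [hres, hf _ u.2]; rfl))
  have hμne : μ ≠ 0 := hμdef ▸ minpoly.ne_zero hμint
  have hμ0 : μ.coeff 0 ≠ 0 := by
    intro hc
    obtain ⟨r, hr⟩ := X_dvd_iff.2 hc
    have h1 : μ ∣ r := hμdvd r fun u hu => by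
      have := hμ u hu
      rwa [hr, map_mul, aeval_X, Module.End.mul_apply, LinearEquiv.coe_coe, LinearEquiv.map_eq_zero_iff] at this
    have hr0 : r ≠ 0 := fun e => hμne (by rw [hr, e, mul_zero])
    have h3 := natDegree_le_of_dvd h1 hr0
    rw [hr, natDegree_X_mul hr0] at h3
    omega
  obtain ⟨p, hpm, hp, r, hr⟩ := Polynomial.exists_monic_irreducible_factor μ (hμdef ▸ minpoly.not_isUnit F Tu)
  have hp0 : p.coeff 0 ≠ 0 := fun e => hμ0 (by rw [hr, mul_coeff_zero, e, zero_mul])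
  have hr0 : r ≠ 0 := fun e => hμne (by rw [hr, e, mul_zero])
  obtain ⟨x₀, hx₀, hrx₀⟩ : ∃ u ∈ U, aeval (T : End F V) r u ≠ 0 := by
    by_contra hc
    push Not at hc
    have := natDegree_le_of_dvd (hμdvd r hc) hr0
    rw [hr, natDegree_mul hp.ne_zero hr0] at this
    have := hp.natDegree_pos
    omega
  set π := p * p.reverse with hπ
  -- Fitting decomposition
  obtain ⟨N, hN⟩ := Filter.eventually_atTop.1 (LinearMap.eventually_isCompl_ker_pow_range_pow (aeval Tu π))
  set n := N + 1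
  have hcompl := hN n (Nat.le_succ N)
  rw [← map_pow] at hcompl
  have hrevN : ∀ m : ℕ, (π ^ m).reverse = π ^ m := by
    intro m
    induction m with
    | zero => rw [pow_zero, ← map_one C, reverse_C]
    | succ m ih => rw [pow_succ, reverse_mul_of_domain, ih, hπ, reverse_mul_of_domain, reverse_reverse' hp0,
        mul_comm p.reverse]
  set P := aeval (T : End F V) (π ^ n) with hP
  set K := U ⊓ LinearMap.ker P with hKdef
  have hKinv : Inv T K := fun u hu => ⟨hU u hu.1, by
    show P (T u) = 0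
    rw [show P (T u) = T (P u) from
      (LinearMap.congr_fun (aeval_commute (Commute.refl (T : End F V)) (π ^ n)).eq u).symm,
      show P u = 0 from hu.2, map_zero]⟩
  have hKnd : ND B K := by
    intro a ha hperp
    refine hnd a ha.1 fun v hv => ?_
    obtain ⟨a', ha', b', ⟨b, hb⟩, hab⟩ := Submodule.mem_sup.1
      (hcompl.sup_eq_top.ge (Submodule.mem_top (x := (⟨v, hv⟩ : U))))
    have e : v = (a' : V) + P (b : V) := by
      have := congrArg Subtype.val hab
      rw [Submodule.coe_add, ← hb, hres] at this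
      exact this.symm
    have ha'K : (a' : V) ∈ K := ⟨a'.2, by
      show P (a' : V) = 0
      rw [hP, ← hres, LinearMap.mem_ker.1 ha', Submodule.coe_zero]⟩
    rw [e, map_add, hperp _ ha'K, zero_add, hP, ← hI.adj',
      show aeval (T.symm : End F V) (π ^ n) a = 0 by rw [poly_symm_zero, hrevN]; exact ha.2,
      map_zero, LinearMap.zero_apply]
  have hKU : K = U := by
    refine hprime K inf_le_left hKinv hKnd fun hb => ?_
    have : aeval (T : End F V) r x₀ ∈ K := ⟨hU.poly_mem _ hx₀, by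
      show P _ = 0
      rw [hP, ← Module.End.mul_apply, ← map_mul, show π ^ n * r = π ^ N * p.reverse * μ by
        rw [hr, show n = N + 1 from rfl, pow_succ, hπ]; ring, map_mul, Module.End.mul_apply, hμ x₀ hx₀, map_zero]⟩
    rw [hb, Submodule.mem_bot] at this
    exact hrx₀ this
  have hPr : Prime' B T U μ p r :=
    ⟨hU, hnd, hμ, hμdvd, hp, hp0, hr, n, hμdvd _ fun u hu => by rw [← hKU] at hu; exact hu.2⟩
  by_cases hex : ∃ x ∈ U, B (aeval (T : End F V) r x) x ≠ 0 ∨ B (T (aeval (T : End F V) r x)) x ≠ 0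
  · obtain ⟨x, hx, hB⟩ := hex
    have hx0 : x ≠ 0 := fun e => by rcases hB with h | h <;> exact h (by simp [e])
    have hCnd := hPr.cyc_ND hI hx hB
    have hC : cyc T x = U := hprime _ (hU.cyc_le hx) (cyc_inv x) hCnd fun hb => hx0 (by
      have := self_mem_cyc (T := T) x
      rwa [hb, Submodule.mem_bot] at this)
    exact hC ▸ rv_cyc h2 hI hCnd
  push Not at hex
  obtain ⟨ε, k, hε, hpε, hk⟩ := hPr.exists_eigen hI hr0 hpm (hμdef ▸ minpoly.monic hμint) hex
  have hk1 : 1 ≤ k := by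
    rcases Nat.eq_zero_or_pos k with h | h
    · exact absurd (show IsUnit μ by rw [hk, h, pow_zero]; exact isUnit_one) (hμdef ▸ minpoly.not_isUnit F Tu)
    · exact h
  have hrk : r = p ^ (k - 1) := by
    refine mul_left_cancel₀ hp.ne_zero ?_
    rw [← hr, hk, ← pow_succ', Nat.sub_add_cancel hk1]
  refine rv_pair (ε := ε) (k := k) (x₀ := x₀) h2 hI hU hnd hε (fun u hu => ?_) hk1 (fun v hv => ?_) hx₀ ?_ hprime
  · rw [nn_eq, ← map_pow, ← hpε, ← hk, hμ u hu]
  · rw [nn_eq, ← map_pow, ← hpε, ← hrk]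
    exact (hex v hv).1
  · rw [nn_eq, ← map_pow, ← hpε, ← hrk]
    exact hrx₀

theorem rv_of_ND (h2 : (2 : F) ≠ 0) (hI : Iso B T) (U : Submodule F V) (hU : Inv T U) (hnd : ND B U) :
    Rv B T U := by
  induction hN : finrank F U using Nat.strong_induction_on generalizing U with
  | _ N IH =>
    subst hN
    by_cases h0 : U = ⊥
    · subst h0
      have hd : ∀ a : End F V, dd a (⊥ : Submodule F V) = 0 := fun a => by
        have h1 : finrank F (fx a (⊥ : Submodule F V)) = 0 :=
          Nat.le_zero.1 ((Submodule.finrank_mono inf_le_left).trans (by simp))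
        have h2' : finrank F (ng a (⊥ : Submodule F V)) = 0 :=
          Nat.le_zero.1 ((Submodule.finrank_mono inf_le_left).trans (by simp))
        rw [dd, h1, h2', sub_self]
      refine rv_zero (a := 1) ⟨fun u hu => hu, fun u _ => rfl, fun u _ v _ => rfl, fun u hu => ?_⟩ (hd _) (hd _)
      rw [(Submodule.mem_bot F).1 hu]
      simp
    by_cases hp : ∀ W : Submodule F V, W ≤ U → Inv T W → ND B W → W ≠ ⊥ → W = U
    · exact rv_prime h2 hI hU hnd h0 hp
    push Not at hp
    obtain ⟨W, hWU, hW, hWnd, hW0, hWne⟩ := hp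
    let W' : Submodule F V := U ⊓ ⨅ v : W, LinearMap.ker ((LinearMap.flip B) (v : V))
    have hmem : ∀ u, u ∈ W' ↔ u ∈ U ∧ ∀ v ∈ W, B u v = 0 := fun u => by simp [W']
    have hdec : U ≤ W ⊔ W' := by
      intro u hu
      obtain ⟨a, ha, ha'⟩ := exists_dual_of_ND hWnd ((LinearMap.flip B) u)
      refine Submodule.mem_sup.2 ⟨a, ha, u - a, (hmem _).2 ⟨U.sub_mem hu (hWU ha), fun v hv => ?_⟩, by abel⟩
      rw [hI.symm, map_sub, ha' v hv, LinearMap.flip_apply, sub_self]
    have hW' : Inv T W' := fun u hu => by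
      rw [hmem] at hu ⊢
      exact ⟨hU u hu.1, fun v hv => by rw [← T.apply_symm_apply v, hI.iso]; exact hu.2 _ (hW.symm_mem hv)⟩
    have hW'nd : ND B W' := fun u hu hperp => by
      rw [hmem] at hu
      refine hnd u hu.1 fun v hv => ?_
      obtain ⟨a, ha, b, hb, rfl⟩ := Submodule.mem_sup.1 (hdec hv)
      rw [map_add, hu.2 a ha, hperp b hb, add_zero]
    have hW'ne : W' ≠ U := fun e => hW0 ((Submodule.eq_bot_iff W).2 fun u hu =>
      hWnd u hu ((hmem u).1 (e.symm ▸ hWU hu)).2)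
    have hlt := Submodule.finrank_lt_finrank_of_lt (lt_of_le_of_ne hWU hWne)
    have hlt' := Submodule.finrank_lt_finrank_of_lt (lt_of_le_of_ne (inf_le_left : W' ≤ U) hW'ne)
    exact Rv.sum hI hWU inf_le_left hW hW' hWnd (fun a ha b hb => hI.swap (((hmem b).1 hb).2 a ha)) hdec
      (IH _ hlt W hW hWnd rfl) (IH _ hlt' W' hW' hW'nd rfl)

/-- The reversing involution of an isometry of an odd dimensional space with its eigenspace dimensions. -/
theorem exists_reversal (h2 : (2 : F) ≠ 0) (hI : Iso B T) : Rv B T (⊤ : Submodule F V) :=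
  rv_of_ND h2 hI ⊤ (fun _ _ => trivial) fun u _ h => hI.sep u fun w => h w trivial

end CfsgLib.OrthReversal
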