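import Cfsg.Agent.Lib.OrthReversal.Main
import Cfsg.Agent.Lib.OrthReversal.Anisotropic

/-!
Every element of `Ω` of an odd dimensional orthogonal space is a commutator in `Ω`.
-/

set_option autoImplicit false
set_option linter.unusedSectionVars false

namespace CfsgLib.OrthReversal

open CfsgLib.Orth
open Matrix

variable {F : Type*} [Field F] [Finite F] {ι : Type} [Fintype ι] [DecidableEq ι]
variable {Q : QuadraticForm F (ι → F)} {n : ℕ} {c : F}

local notation "B" => QuadraticMap.polar (DFunLike.coe Q)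

/-- An element of `Ω` is a product of two involutions with fixed spaces of dimension `n + 1`. -/
theorem exists_invPair (S : OddSetting Q n c) {g : Grp Q} (hg : g ∈ Cfsg.Omega F ⇑Q) :
    ∃ a b : Grp Q, InvPair Q n a b ∧ g = a * b := by
  have hB := S.nondeg
  have h2 := S.two
  have hN2 : 2 ≤ Module.finrank F (ι → F) := by rw [S.dim]; have := S.three; omega
  let T : (ι → F) ≃ₗ[F] (ι → F) :=
    { toFun := ap g
      map_add' := ap_add g
      map_smul' := ap_smul g
      invFun := ap g⁻¹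
      left_inv := ap_inv_ap g
      right_inv := ap_ap_inv g }
  have hI : Iso (QuadraticMap.polarBilin Q) T := ⟨fun v w => b_comm v w, hB, ap_b g⟩
  obtain ⟨i, j, hi, hj, H⟩ := exists_reversal h2 hI
  obtain ⟨A, hA, hd1, hd2⟩ := H 1 1 (Or.inl rfl) (Or.inl rfl)
  obtain ⟨a, ha⟩ := exists_iso hB A fun x => by
    have := hA.iso x trivial x trivial
    rw [QuadraticMap.polarBilin_apply_apply, QuadraticMap.polarBilin_apply_apply, b_self, b_self] at this
    exact mul_left_cancel₀ h2 this
  have hb : ∀ x, ap (a * g) x = A (T x) := fun x => by rw [ap_mul, ha]; rfl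
  have haa : a * a = 1 := ext_ap fun x => by rw [ap_mul, ha, ha, hA.sq x trivial, ap_one]
  have hbb : a * g * (a * g) = 1 := ext_ap fun x => by
    rw [ap_mul, hb, hb, hA.rev x trivial, hA.sq x trivial, ap_one]
  have hgab : g = a * (a * g) := by rw [← mul_assoc, haa, one_mul]
  have f1 : fixSpace a = fx A ⊤ := by
    ext x; rw [mem_fixSpace, mem_fx, ha]; simp
  have n1 : negSpace a = ng A ⊤ := by
    ext x; rw [mem_negSpace, mem_ng, ha]; simp
  have f2 : fixSpace (a * g) = fx (A * (T : Module.End F (ι → F))) ⊤ := by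
    ext x; rw [mem_fixSpace, mem_fx, hb]; simp
  have n2 : negSpace (a * g) = ng (A * (T : Module.End F (ι → F))) ⊤ := by
    ext x; rw [mem_negSpace, mem_ng, hb]; simp
  have s1 := fix_add_neg h2 haa
  have s2 := fix_add_neg h2 hbb
  rw [S.dim] at s1 s2
  rw [one_mul, one_mul, dd, ← f1, ← n1] at hd1
  rw [one_mul, one_mul, dd, ← f2, ← n2] at hd2
  have hdk : dickson hB g = 1 := by
    obtain ⟨hΩ, -, -⟩ := omega_eq_ker_psi hB h2 hN2 (one_ne_zero (α := F))
    rw [hΩ, MonoidHom.mem_ker, CfsgLib.Orth.psi, MonoidHom.prod_apply, Prod.ext_iff] at hg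
    exact hg.1
  by_cases hij : i = 1 ∧ j = 0
  · exact ⟨a, a * g, ⟨haa, hbb, by omega, by omega, hgab ▸ hg⟩, hgab⟩
  have hna : Module.finrank F (negSpace a) = n := by omega
  have hnb : Module.finrank F (negSpace (a * g)) = n + 1 := by omega
  rw [hgab, map_mul, dickson_invol' hB h2 haa, dickson_invol' hB h2 hbb, hna, hnb, pow_succ, ← mul_assoc,
    Int.units_mul_self, one_mul] at hdk
  exact absurd hdk (by decide)

/-- Every element of `Ω` is a commutator in `Ω`. -/
theorem omComm_of_mem (S : OddSetting Q n c) {g : Grp Q} (hg : g ∈ Cfsg.Omega F ⇑Q) : OmComm Q g := by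
  have hB := S.nondeg
  have h2 := S.two
  obtain ⟨a, b, P, rfl⟩ := exists_invPair S hg
  by_cases hx : ∃ x ∈ fixSpace (a * b), ¬ IsSquare (c * Q x)
  · obtain ⟨x, hx, hsq⟩ := hx
    have e := (mem_fix_mul_iff P.sqa).1 hx
    exact omComm_of_vector S P hsq (by rw [e]) (by rw [e]) (by rw [e])
  push Not at hx
  by_cases hrad : fixSpace (a * b) ⊓ orth Q (fixSpace (a * b)) = ⊥
  swap
  · exact omComm_degenerate S P hx hrad
  set K := fixSpace (a * b) with hK
  obtain ⟨v, hva, hv0⟩ : ∃ v ∈ fixSpace a ⊓ fixSpace b, v ≠ 0 := by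
    refine Submodule.exists_mem_ne_zero_of_ne_bot fun h => ?_
    have h1 := Submodule.finrank_sup_add_finrank_inf_eq (fixSpace a) (fixSpace b)
    have h3 := Submodule.finrank_le (fixSpace a ⊔ fixSpace b)
    rw [h, finrank_bot, P.dima, P.dimb] at h1
    rw [S.dim] at h3
    omega
  have hmem : ∀ x, x ∈ K ↔ ap a x = ap b x := fun x => mem_fix_mul_iff P.sqa
  have hvK : v ∈ K := (hmem v).2 (by rw [mem_fixSpace.1 hva.1, mem_fixSpace.1 hva.2])
  have hK1 : Module.finrank F K ≤ 1 := by
    by_contra hlt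
    obtain ⟨δ, hδ0, hδ⟩ := exists_bad_class S
    obtain ⟨x, hxK, e⟩ := univ_of_dim (Q := Q) (R := K) (by rw [hrad, finrank_bot]; omega) δ hδ0
    exact hδ (e ▸ hx x hxK)
  have hspan : Submodule.span F {v} = K := Submodule.eq_of_le_of_finrank_le
    ((Submodule.span_singleton_le_iff_mem _ _).2 hvK) (by rw [finrank_span_singleton hv0]; exact hK1)
  have hQv : Q v ≠ 0 := fun hq => hv0 <| by
    have : v ∈ K ⊓ orth Q K := ⟨hvK, fun y hy => by
      rw [← hspan] at hy
      obtain ⟨t, rfl⟩ := Submodule.mem_span_singleton.1 hy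
      show B (t • v) v = 0
      rw [b_smul_left, b_self, hq, mul_zero, mul_zero]⟩
    rwa [hrad, Submodule.mem_bot] at this
  refine LineData.omComm S ⟨P, hQv, hx v hvK, hva.1, hva.2, fun x hxv e => ?_⟩
  have hxK := (hmem x).2 e
  rw [← hspan] at hxK
  obtain ⟨t, rfl⟩ := Submodule.mem_span_singleton.1 hxK
  rw [b_smul_right, b_self, mul_eq_zero, or_iff_left (mul_ne_zero h2 hQv)] at hxv
  rw [hxv, zero_smul]

end CfsgLib.OrthReversal
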