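import Cfsg.Agent.Lib.OrthReversal.Cyclic

/-!
The reversing involution on a pair of cyclic subspaces for an eigenvalue `±1`.
-/

set_option autoImplicit false
set_option linter.unusedSectionVars false

namespace CfsgLib.OrthReversal

open Polynomial Module
open CfsgLib.SpComm (ND Inv cyc mem_cyc self_mem_cyc cyc_inv nn nn_eq)

variable {F : Type*} [Field F] {V : Type*} [AddCommGroup V] [Module F V] [FiniteDimensional F V]
variable {B : LinearMap.BilinForm F V} {T : V ≃ₗ[F] V} {U : Submodule F V} {ε : F} {k : ℕ} {x y : V}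

/-- Moving one step to the other side. -/
theorem Iso.nn_step (hI : Iso B T) (hε : ε = 1 ∨ ε = -1) (v w : V) :
    B v (nn T ε w) + B (nn T ε v) w + ε * B (nn T ε v) (nn T ε w) = 0 := by
  have e : ε * ε = 1 := by rcases hε with rfl | rfl <;> ring
  simp only [nn, LinearMap.sub_apply, LinearEquiv.coe_coe, LinearMap.smul_apply, Module.End.one_apply, map_sub,
    map_smul, smul_eq_mul, hI.iso]
  linear_combination (-(B (T v) w) - B v (T w) + ε * B v w) * e

/-- A vector can be corrected to generate a totally isotropic cyclic subspace. -/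
theorem exists_isotropic (h2 : (2 : F) ≠ 0) (hI : Iso B T) (hε : ε = 1 ∨ ε = -1) (hU : Inv T U)
    (hk : ∀ u ∈ U, (nn T ε ^ k) u = 0) (hev : Even k) (hx : x ∈ U) (hy : y ∈ U)
    (hw : B ((nn T ε ^ (k - 1)) x) y = 1) :
    ∃ x' ∈ U, (∀ w, B ((nn T ε ^ (k - 1)) x') w = B ((nn T ε ^ (k - 1)) x) w) ∧
      ∀ a b : ℕ, B ((nn T ε ^ a) x') ((nn T ε ^ b) x') = 0 := by
  have hNU : ∀ (j : ℕ), ∀ u ∈ U, (nn T ε ^ j) u ∈ U := fun j u hu => by
    rw [nn_eq, ← map_pow]; exact hU.poly_mem _ hu
  suffices H : ∀ d : ℕ, d ≤ k → ∃ x' ∈ U, (∀ w, B ((nn T ε ^ (k - 1)) x') w = B ((nn T ε ^ (k - 1)) x) w) ∧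
      ∀ a b : ℕ, k ≤ a + b + d → B ((nn T ε ^ a) x') ((nn T ε ^ b) x') = 0 by
    obtain ⟨x', h1, h2', h3⟩ := H k le_rfl
    exact ⟨x', h1, h2', fun a b => h3 a b (by omega)⟩
  intro d
  induction d with
  | zero => exact fun _ => ⟨x, hx, fun _ => rfl, fun a b h => hI.nn_high hε hk (by omega) hx _⟩
  | succ d ih =>
    intro hd
    obtain ⟨x', hx', htop, hz⟩ := ih (by omega)
    set m := k - (d + 1) with hm
    set S := B x' ((nn T ε ^ m) x') with hS
    -- the values at level `m` alternate
    have halt : ∀ a, a ≤ m → B ((nn T ε ^ a) x') ((nn T ε ^ (m - a)) x') = (-1) ^ a * S := by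
      intro a
      induction a with
      | zero => intro _; rw [Nat.sub_zero, pow_zero, pow_zero, one_mul]; rfl
      | succ a iha =>
        intro ha
        have h := hI.nn_step hε ((nn T ε ^ a) x') ((nn T ε ^ (m - (a + 1))) x')
        rw [← Module.End.mul_apply, ← pow_succ', ← Module.End.mul_apply, ← pow_succ',
          show m - (a + 1) + 1 = m - a by omega, iha (by omega)] at h
        rw [hz (a + 1) (m - a) (by omega), mul_zero, add_zero] at h
        rw [pow_succ' (-1 : F), mul_assoc, neg_one_mul]
        linear_combination h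
    rcases Nat.even_or_odd m with hme | hmo
    · -- correct by a multiple of `y`
      set j := k - 1 - m with hj
      have hjo : Odd j := by
        obtain ⟨p, hp⟩ := hev
        obtain ⟨q, hq⟩ := hme
        exact ⟨p - q - 1, by omega⟩
      have hj1 : 1 ≤ j := hjo.pos
      set c := S / 2 with hc
      refine ⟨x' + c • (nn T ε ^ j) y, U.add_mem hx' (U.smul_mem _ (hNU j y hy)), fun w => ?_, fun a b hab => ?_⟩
      · have e : (nn T ε ^ (k - 1)) ((nn T ε ^ j) y) = 0 := by
          rw [← Module.End.mul_apply, ← pow_add, show k - 1 + j = (j - 1) + k by omega, pow_add,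
            Module.End.mul_apply, hk y hy, map_zero]
        rw [map_add, map_smul, e, smul_zero, add_zero, htop]
      · have hpow : ∀ p q (v : V), (nn T ε ^ p) ((nn T ε ^ q) v) = (nn T ε ^ (p + q)) v := fun p q v => by
          rw [← Module.End.mul_apply, ← pow_add]
        simp only [map_add, map_smul, LinearMap.add_apply, LinearMap.smul_apply, smul_eq_mul, hpow]
        have hlast : B ((nn T ε ^ (a + j)) y) ((nn T ε ^ (b + j)) y) = 0 := hI.nn_high hε hk (by omega) hy _
        rw [hlast]
        by_cases hlev : k ≤ a + b + d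
        · rw [hz a b hlev, hI.nn_high hε hk (by omega : k ≤ a + (b + j)) hx' y,
            hI.nn_high hε hk (by omega : k ≤ a + j + b) hy x']
          ring
        · have hb' : b = m - a := by omega
          have hkodd : Odd (k - 1) := by
            obtain ⟨p, hp⟩ := hev
            exact ⟨p - 1, by omega⟩
          have hxy : B ((nn T ε ^ (k - 1)) x') y = 1 := by rw [htop, hw]
          have hyx : B ((nn T ε ^ (k - 1)) y) x' = -1 := by
            have := hI.nn_top hε hk (a := 0) (b := k - 1) (by omega) hx' y
            rw [pow_zero, Module.End.one_apply, hkodd.neg_one_pow, hxy, mul_one] at this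
            rw [hI.symm, this]
          have hpar : ((-1 : F)) ^ a = (-1) ^ b := neg_one_pow_congr (by
            obtain ⟨q, hq⟩ := hme
            rw [Nat.even_iff, Nat.even_iff]
            omega)
          have e1 : B ((nn T ε ^ a) x') ((nn T ε ^ b) x') = (-1) ^ a * S := by
            rw [hb']; exact halt a (by omega)
          have e2 : B ((nn T ε ^ a) x') ((nn T ε ^ (b + j)) y) = (-1) ^ (b + j) := by
            rw [hI.nn_top hε hk (by omega) hx', hxy, mul_one]
          have e3 : B ((nn T ε ^ (a + j)) y) ((nn T ε ^ b) x') = -((-1) ^ b) := by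
            rw [hI.nn_top hε hk (by omega) hy, hyx, mul_neg_one]
          have hcS : 2 * c = S := by rw [hc, mul_div_cancel₀ _ h2]
          rw [e1, e2, e3, pow_add, hjo.neg_one_pow, hpar]
          linear_combination (-((-1 : F) ^ b)) * hcS
    · refine ⟨x', hx', htop, fun a b hab => ?_⟩
      by_cases hlev : k ≤ a + b + d
      · exact hz a b hlev
      have hb' : b = m - a := by omega
      have h0 : S = (-1) ^ m * S := by
        have h := halt m le_rfl
        rw [Nat.sub_self, pow_zero] at h
        rw [← h, hS, hI.symm]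
        rfl
      rw [hmo.neg_one_pow, neg_one_mul] at h0
      have hS0 : S = 0 := (mul_eq_zero.1 (by linear_combination h0 : (2 : F) * S = 0)).resolve_left h2
      rw [hb', halt a (by omega), hS0, mul_zero]

end CfsgLib.OrthReversal
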